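import Mathlib
import Cfsg.Agent.Lib.Base.FPF

/-!
A trivial-intersection subgroup `M` whose nontrivial elements have centralizers of odd order and
whose normalizer is the product of `M` with the centralizer of an involution `z`: first properties.
-/

set_option autoImplicit false
set_option linter.style.haveILetI false

namespace CfsgLib.LargeTI

open Subgroup CfsgLib.Base

universe u

variable {G : Type u} [Group G] [Finite G]

/-- The configuration: a non-normal TI-subgroup, with more involutions than cosets. -/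
structure LTI (M : Subgroup G) (z : G) : Prop where
  ne_bot : M ≠ ⊥
  ti : ∀ g : G, M ⊓ M.map (MulAut.conj g).toMonoidHom ≠ ⊥ → g ∈ normalizer (M : Set G)
  ord : orderOf z = 2
  mem_norm : z ∈ normalizer (M : Set G)
  fac : M ⊔ (normalizer (M : Set G) ⊓ centralizer ({z} : Set G)) = normalizer (M : Set G)
  odd : ∀ x ∈ M, x ≠ 1 → Odd (Nat.card ↥(centralizer ({x} : Set G)))
  many : M.index < Nat.card {g : G // orderOf g = 2}
  not_normal : ¬ M.Normal

omit [Finite G] in
theorem inv_of_invol {u : G} (hu : orderOf u = 2) : u⁻¹ = u ∧ u * u = 1 ∧ u ≠ 1 := by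
  have h : u * u = 1 := by rw [← pow_two, ← hu, pow_orderOf_eq_one]
  exact ⟨inv_eq_of_mul_eq_one_right h, h, fun e => by rw [e, orderOf_one] at hu; omega⟩

omit [Finite G] in
theorem not_two_dvd_of_odd {a : ℕ} (h : Odd a) : ¬ 2 ∣ a := by
  obtain ⟨b, rfl⟩ := h
  omega

namespace LTI

variable {M : Subgroup G} {z : G} (d : LTI M z)
include d

theorem z_inv : z⁻¹ = z := (inv_of_invol d.ord).1

theorem z_sq : z * z = 1 := (inv_of_invol d.ord).2.1

theorem z_ne : z ≠ 1 := (inv_of_invol d.ord).2.2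

theorem not_commute {a x : G} (ha : orderOf a = 2) (hx : x ∈ M) (h : a * x = x * a) : x = 1 := by
  by_contra hx1
  refine not_two_dvd_of_odd (d.odd x hx hx1) ?_
  rw [← ha, ← Subgroup.orderOf_mk a (mem_centralizer_singleton_iff.2 h)]
  exact orderOf_dvd_natCard _

theorem conj_invol {a x : G} (ha : orderOf a = 2) (haN : a ∈ normalizer (M : Set G)) (hx : x ∈ M) :
    a * x * a⁻¹ = x⁻¹ := by
  have hf : IsFPF (zpowers a) M := by
    refine ⟨zpowers_le.2 haN, fun b hb hb1 => ?_⟩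
    have hba : b = a := by
      obtain ⟨j, rfl⟩ := mem_zpowers_iff.1 hb
      have e : a ^ (j % 2) = a ^ j := by
        have := zpow_mod_orderOf a j
        rwa [ha] at this
      rcases Int.emod_two_eq j with h | h <;> rw [h] at e
      · exact absurd e.symm (by simpa using hb1)
      · rw [← e, zpow_one]
    rw [hba, eq_bot_iff_forall]
    exact fun v hv => d.not_commute ha hv.1 (mem_centralizer_singleton_iff.1 hv.2).symm
  exact hf.conj_eq_inv (mem_zpowers a) (inv_of_invol ha).2.2 (inv_of_invol ha).2.1 hx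

theorem inv {x : G} (hx : x ∈ M) : z * x * z⁻¹ = x⁻¹ := d.conj_invol d.ord d.mem_norm hx

theorem comm {x y : G} (hx : x ∈ M) (hy : y ∈ M) : x * y = y * x := by
  have h := d.inv (mul_mem hx hy)
  rw [show z * (x * y) * z⁻¹ = (z * x * z⁻¹) * (z * y * z⁻¹) by group, d.inv hx, d.inv hy,
    ← mul_inv_rev, inv_inj] at h
  exact h.symm

theorem odd_card : Odd (Nat.card M) := by
  by_contra h
  rw [Nat.not_odd_iff_even] at h
  obtain ⟨⟨x, hx⟩, hx2⟩ := exists_prime_orderOf_dvd_card' 2 (G := M) (hp := ⟨Nat.prime_two⟩) h.two_dvd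
  rw [Subgroup.orderOf_mk] at hx2
  obtain ⟨hxi, -, hx1⟩ := inv_of_invol hx2
  refine hx1 (d.not_commute d.ord hx ?_)
  have := d.inv hx
  rw [hxi] at this
  exact mul_inv_eq_iff_eq_mul.1 this

theorem odd_orderOf {x : G} (hx : x ∈ M) : Odd (orderOf x) := by
  rw [← Subgroup.orderOf_mk x hx]
  exact d.odd_card.of_dvd_nat (orderOf_dvd_natCard _)

/-- Every element of `M` is the square of an element of `M`. -/
theorem exists_sqrt {x : G} (hx : x ∈ M) : ∃ y ∈ M, y * y = x := by
  obtain ⟨j, hj⟩ := d.odd_orderOf hx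
  refine ⟨x ^ (j + 1), pow_mem hx _, ?_⟩
  rw [← pow_add, show j + 1 + (j + 1) = orderOf x + 1 by omega, pow_succ, pow_orderOf_eq_one, one_mul]

theorem eq_one_of_sq {x : G} (hx : x ∈ M) (h : x * x = 1) : x = 1 := by
  have h2 : orderOf x ∣ 2 := orderOf_dvd_of_pow_eq_one (by rw [pow_two, h])
  rcases (Nat.dvd_prime Nat.prime_two).1 h2 with h1 | h1
  · exact orderOf_eq_one_iff.1 h1
  · exact absurd (h1 ▸ d.odd_orderOf hx) (by decide)

omit d in
/-- The copy of `M` inside its normalizer. -/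
abbrev MN (M : Subgroup G) : Subgroup ↥(normalizer (M : Set G)) :=
  M.subgroupOf (normalizer (M : Set G))

omit d in
/-- The projection of `N(M)` onto `N(M)/M`. -/
abbrev pr (M : Subgroup G) : ↥(normalizer (M : Set G)) →* ↥(normalizer (M : Set G)) ⧸ MN M :=
  QuotientGroup.mk' (MN M)

omit d in
theorem pr_eq_one {a : ↥(normalizer (M : Set G))} : pr M a = 1 ↔ (a : G) ∈ M := by
  rw [QuotientGroup.mk'_apply, QuotientGroup.eq_one_iff, mem_subgroupOf]

theorem pr_z_central (q : ↥(normalizer (M : Set G)) ⧸ MN M) :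
    pr M ⟨z, d.mem_norm⟩ * q = q * pr M ⟨z, d.mem_norm⟩ := by
  obtain ⟨a, rfl⟩ := QuotientGroup.mk'_surjective (MN M) q
  have h : a ∈ MN M ⊔ (normalizer (M : Set G) ⊓ centralizer ({z} : Set G)).subgroupOf
      (normalizer (M : Set G)) := by
    rw [← subgroupOf_sup Subgroup.le_normalizer inf_le_left, mem_subgroupOf, d.fac]
    exact a.2
  obtain ⟨y, hy, b, hb, rfl⟩ := mem_sup_of_normal_left.1 h
  have hy1 : pr M y = 1 := pr_eq_one.2 (mem_subgroupOf.1 hy)
  rw [map_mul, show QuotientGroup.mk' (MN M) y = 1 from hy1, one_mul, ← map_mul, ← map_mul]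
  exact congrArg _ (Subtype.ext (mem_centralizer_singleton_iff.1 (mem_subgroupOf.1 hb).2).symm)

theorem pr_z_ne : pr M ⟨z, d.mem_norm⟩ ≠ 1 := fun h =>
  d.z_ne (d.eq_one_of_sq (pr_eq_one.1 h) d.z_sq)

theorem pr_z_sq : pr M ⟨z, d.mem_norm⟩ * pr M ⟨z, d.mem_norm⟩ = 1 := by
  rw [← map_mul, pr_eq_one]
  show z * z ∈ M
  rw [d.z_sq]
  exact one_mem M

theorem pr_z_orderOf : orderOf (pr M ⟨z, d.mem_norm⟩) = 2 :=
  orderOf_eq_prime (by rw [pow_two]; exact d.pr_z_sq) d.pr_z_ne

/-- An element of `N(M)` inverted by an element of `z M` squares into `M`. -/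
theorem pr_sq {a : ↥(normalizer (M : Set G))} {y : G} (hy : y ∈ M)
    (h : (y * z) * (a : G) * (y * z)⁻¹ = (a : G)⁻¹) : pr M a * pr M a = 1 := by
  have e : pr M (⟨y, le_normalizer hy⟩ * ⟨z, d.mem_norm⟩ * a *
      (⟨y, le_normalizer hy⟩ * ⟨z, d.mem_norm⟩)⁻¹) = pr M a⁻¹ := congrArg _ (Subtype.ext h)
  rw [map_mul, map_mul, map_inv, map_mul,
    show pr M ⟨y, le_normalizer hy⟩ = 1 from pr_eq_one.2 hy, one_mul, d.pr_z_central,
    mul_inv_cancel_right, map_inv] at e
  exact mul_eq_one_iff_eq_inv.2 e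

theorem invol_mem {a : G} (ha : orderOf a = 2) (haN : a ∈ normalizer (M : Set G)) :
    ∃ y ∈ M, a = y * z := by
  obtain ⟨x, hx, hx1⟩ := (bot_or_exists_ne_one M).resolve_left d.ne_bot
  refine ⟨a * z, ?_, by rw [mul_assoc, d.z_sq, mul_one]⟩
  have hc : a * z ∈ centralizer ({x} : Set G) := mem_centralizer_singleton_iff.2 (by
    have h1 := d.inv hx
    have h2 : a * (z * x * z⁻¹) * a⁻¹ = x := by
      rw [h1, d.conj_invol ha haN (inv_mem hx), inv_inv]
    calc a * z * x = (a * (z * x * z⁻¹) * a⁻¹) * (a * z) := by group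
      _ = x * (a * z) := by rw [h2])
  have hodd : Odd (orderOf (a * z)) := by
    rw [← Subgroup.orderOf_mk (a * z) hc]
    exact (d.odd x hx hx1).of_dvd_nat (orderOf_dvd_natCard _)
  let n : ↥(normalizer (M : Set G)) := ⟨a * z, mul_mem haN d.mem_norm⟩
  have hsq : pr M n * pr M n = 1 := d.pr_sq (one_mem M) (by
    show (1 * z) * (a * z) * (1 * z)⁻¹ = (a * z)⁻¹
    rw [one_mul, mul_inv_rev, (inv_of_invol ha).1, d.z_inv,
      show z * (a * z) * z = z * a * (z * z) by group, d.z_sq, mul_one])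
  obtain ⟨j, hj⟩ := (show Odd (orderOf n) by rwa [← Subgroup.orderOf_coe])
  have h1 : pr M n ^ orderOf n = 1 := by rw [← map_pow, pow_orderOf_eq_one, map_one]
  rw [hj, pow_succ, pow_mul, pow_two, hsq, one_pow, one_mul] at h1
  exact pr_eq_one.1 h1

theorem orderOf_mul_z {y : G} (hy : y ∈ M) : orderOf (y * z) = 2 := by
  refine orderOf_eq_prime ?_ fun h => d.z_ne (d.eq_one_of_sq ?_ d.z_sq)
  · rw [pow_two, show y * z * (y * z) = y * (z * y * z⁻¹) * (z * z) by group, d.inv hy, d.z_sq]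
    group
  · rw [← inv_mul_cancel_left y z, h, mul_one]
    exact inv_mem hy

/-- Two involutions in a coset of `M` outside `N(M)` are equal. -/
theorem eq_of_mem_coset {u v : G} (hu : orderOf u = 2) (hv : orderOf v = 2)
    (huN : u ∉ normalizer (M : Set G)) (h : u⁻¹ * v ∈ M) : u = v := by
  by_contra hne
  obtain ⟨hui, huu, -⟩ := inv_of_invol hu
  obtain ⟨hvi, -, -⟩ := inv_of_invol hv
  refine huN (d.ti u fun hb => hne (inv_mul_eq_one.1 ?_))
  rw [← mem_bot, ← hb]
  refine ⟨h, (u⁻¹ * v)⁻¹, inv_mem h, ?_⟩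
  show u * (u⁻¹ * v)⁻¹ * u⁻¹ = u⁻¹ * v
  rw [mul_inv_rev, inv_inv, hui, hvi, show u * (v * u) * u = u * v * (u * u) by group, huu, mul_one]

end LTI

end CfsgLib.LargeTI
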