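import Cfsg.Agent.Lib.Perm.ZassG.SharpPGLEven

/-!
Sharply triply transitive groups with an inverted abelian two-point stabiliser are `PGL(2, K)`.
-/

open MulAction Cfsg CfsgLib.Perm.ZassG

namespace CfsgLib.LargeTI

variable {G Ω : Type*} [Group G] [MulAction G Ω] [Finite G] [Finite Ω]

/-- A Zassenhaus group with `n - 2 = e` whose two-point stabiliser is inverted by an element
exchanging the two points is a `PGL(2, K)`. -/
theorem exists_pgl_of_inverted (hZ : Cfsg.IsZassenhausGroup G Ω) {a b : Ω} (hab : a ≠ b)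
    (hcard : Nat.card (pairStab G a b) + 2 = Nat.card Ω) {s : G} (hsa : s • a = b) (hsb : s • b = a)
    (hinv : ∀ x ∈ pairStab G a b, s * x * s⁻¹ = x⁻¹) :
    ∃ (K : Type) (_ : Field K) (_ : Fintype K), Nat.card K + 1 = Nat.card Ω ∧
      Nonempty (G ≃* Matrix.ProjGenLinGroup (Fin 2) K) := by
  classical
  obtain ⟨F, hF⟩ := exists_kernel hZ hab
  have hn := hF.card_add_one hab
  have hEc : ∀ x y : pairStab G a b, x * y = y * x := fun x y => Subtype.ext (by
    have h := hinv _ (mul_mem x.2 y.2)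
    rw [show s * ((x : G) * y) * s⁻¹ = (s * x * s⁻¹) * (s * y * s⁻¹) by group, hinv x x.2,
      hinv y y.2, ← mul_inv_rev, inv_inj] at h
    exact h.symm)
  obtain ⟨⟨⟨hFc⟩⟩, -⟩ := hF.elementary hZ hab (by omega)
  obtain ⟨K, hKf, hKt, ψ, hψF, hψi, hψs, hψa, ε, hε⟩ := exists_field_of_irreducible (pairStab G a b) F
    (fun x hx u hu => hF.normal x hx.1 u hu) hFc hEc (hF.ne_bot hZ hab)
    (fun A hA hA1 hinvA => hF.eq_top_of_invariant hZ hab (by omega) hA hA1 hinvA)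
  have hq : Nat.card K = Nat.card F :=
    Nat.card_congr (Equiv.ofBijective (fun y => (⟨ψ y, hψF y⟩ : F))
      ⟨fun y z h => hψi (congrArg Subtype.val h), fun u => (hψs u u.2).imp fun y h => Subtype.ext h⟩)
  refine ⟨K, hKf, hKt, by omega, ?_⟩
  have hψ0 : ψ 0 = 1 := mul_eq_left.1 (show ψ 0 * ψ 0 = ψ 0 by rw [← hψa, add_zero])
  let pt : K → Ω := fun y => ψ y • b
  have hinj : Function.Injective pt := fun y z h =>
    hψi (congrArg Subtype.val ((hF.regular b _ hab.symm (hF.smul_ne (hψF z) hab.symm)).unique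
      (y₁ := (⟨ψ y, hψF y⟩ : F)) (y₂ := ⟨ψ z, hψF z⟩) h rfl))
  have hsurj : ∀ c, c ≠ a → ∃ y, pt y = c := fun c hc => by
    obtain ⟨⟨u, hu⟩, huc, -⟩ := hF.regular b c hab.symm hc
    obtain ⟨y, rfl⟩ := hψs u hu
    exact ⟨y, huc⟩
  have hne : ∀ y, pt y ≠ a := fun y => hF.smul_ne (hψF y) hab.symm
  have hx : ∀ (x : pairStab G a b) y, (x : G) • pt y = pt (ε x * y) := fun x y => by
    show (x : G) • ψ y • b = ψ (ε x * y) • b
    rw [← hε x y, mul_smul, mul_smul, inv_smul_eq_iff.2 (mem_stabilizer_iff.1 x.2.2).symm]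
  have hp0 : pt 0 = b := by show ψ 0 • b = b; rw [hψ0, one_smul]
  have hnb : ∀ y, y ≠ 0 → pt y ≠ b := fun y hy h => hy (hinj (h.trans hp0.symm))
  have hdil : ∀ l : K, l ≠ 0 → ∃ x : pairStab G a b, ε x = l := fun l hl => by
    obtain ⟨x, hxm, hxe⟩ := exists_pair_move hZ hab hcard (hne 1) (hnb 1 one_ne_zero) (hne l) (hnb l hl)
    have := hx ⟨x, hxm⟩ 1
    rw [mul_one] at this
    exact ⟨⟨x, hxm⟩, hinj (this.symm.trans hxe)⟩
  refine nonempty_pgl_of_coord (fun g x y z h1 h2 h3 => eq_one_of_three hZ h1 h2 h3) pt hinj hne hsurj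
    (fun t => ⟨ψ t, hF.le (hψF t), fun y => ?_⟩) (fun l hl => ?_) ?_
  · show ψ t • ψ y • b = ψ (y + t) • b
    rw [← mul_smul, ← hψa, add_comm]
  · obtain ⟨x, rfl⟩ := hdil l hl
    exact ⟨x, x.2.1, hx x⟩
  · obtain ⟨c, hc⟩ := hsurj (s • pt 1) fun h => hnb 1 one_ne_zero (smul_left_cancel s (h.trans hsb.symm))
    have hc0 : c ≠ 0 := fun h => hne 1 (smul_left_cancel s (by rw [← hc, h, hp0, hsa]))
    refine ⟨s, c, hc0, by rw [hsa, hp0], by rw [hp0, hsb], fun y hy => ?_⟩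
    obtain ⟨x, rfl⟩ := hdil y hy
    have e1 : (x : G) • pt 1 = pt (ε x) := by rw [hx, mul_one]
    have e2 : ((x⁻¹ : pairStab G a b) : G) • pt (ε x) = pt 1 := by rw [← e1, Subgroup.coe_inv, inv_smul_smul]
    rw [hx] at e2
    rw [← e1, ← mul_smul, show s * (x : G) = ((x⁻¹ : pairStab G a b) : G) * s by
      rw [Subgroup.coe_inv, ← hinv x x.2, inv_mul_cancel_right], mul_smul, ← hc, hx]
    congr 1
    rw [eq_div_iff hy, mul_right_comm, hinj e2, one_mul]


end CfsgLib.LargeTI
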