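import Mathlib
import Cfsg.Agent.Lib.LocalEven.LargeTI.Basic

/-!
Counting involutions coset by coset: every nontrivial point is moved regularly by `M`, and every
coset of `M` outside `N(M)` contains an involution.
-/

set_option autoImplicit false
set_option linter.style.haveILetI false

namespace CfsgLib.LargeTI

open Subgroup CfsgLib.Base MulAction

universe u

variable {G : Type u} [Group G] [Finite G]

/-- The points: the cosets of `N(M)`. -/
abbrev Pts (M : Subgroup G) : Type u := G ⧸ normalizer (M : Set G)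

/-- The point fixed by `N(M)`. -/
abbrev base (M : Subgroup G) : Pts M := ((1 : G) : G ⧸ normalizer (M : Set G))

/-- The involutions mapping the base point to `β`. -/
abbrev Swap (M : Subgroup G) (β : Pts M) : Type u :=
  {g : G // orderOf g = 2 ∧ g • base M = β}

omit [Finite G] in
theorem stab_base (M : Subgroup G) : stabilizer G (base M) = normalizer (M : Set G) :=
  stabilizer_quotient _

omit [Finite G] in
theorem smul_base {M : Subgroup G} {a : G} (h : a ∈ normalizer (M : Set G)) : a • base M = base M :=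
  mem_stabilizer_iff.1 ((stab_base M).symm ▸ h)

omit [Finite G] in
theorem mem_norm_of_smul {M : Subgroup G} {a : G} (h : a • base M = base M) :
    a ∈ normalizer (M : Set G) :=
  (SetLike.ext_iff.1 (stab_base M) a).1 (mem_stabilizer_iff.2 h)

omit [Finite G] in
theorem smul_base_of_swap {M : Subgroup G} {β : Pts M} {u : G} (hu : orderOf u = 2)
    (h : u • base M = β) : u • β = base M := by
  rw [← h, ← mul_smul, (inv_of_invol hu).2.1, one_smul]

namespace LTI

variable {M : Subgroup G} {z : G} (d : LTI M z)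
include d

theorem card_swap_base : Nat.card (Swap M (base M)) = Nat.card M := by
  refine (Nat.card_congr (Equiv.ofBijective
    (fun y : M => (⟨(y : G) * z, d.orderOf_mul_z y.2,
      smul_base (mul_mem (le_normalizer y.2) d.mem_norm)⟩ : Swap M (base M))) ⟨?_, ?_⟩)).symm
  · intro a b h
    exact Subtype.ext (mul_right_cancel (congrArg Subtype.val h :))
  · rintro ⟨g, hg, hgb⟩
    obtain ⟨y, hy, rfl⟩ := d.invol_mem hg (mem_norm_of_smul hgb)
    exact ⟨⟨y, hy⟩, rfl⟩

omit d in
/-- The stabiliser of the base point and of `β`, inside `N(M)`. -/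
abbrev D (M : Subgroup G) (β : Pts M) : Subgroup G := normalizer (M : Set G) ⊓ stabilizer G β

omit d in
/-- Its image in `N(M)/M`. -/
abbrev DQ (M : Subgroup G) (β : Pts M) : Subgroup (↥(normalizer (M : Set G)) ⧸ MN M) :=
  ((D M β).subgroupOf (normalizer (M : Set G))).map (pr M)

omit d in
/-- The index of `M` in its normalizer. -/
noncomputable abbrev k (M : Subgroup G) : ℕ := Nat.card (↥(normalizer (M : Set G)) ⧸ MN M)

theorem card_swap_le {β : Pts M} (hβ : β ≠ base M) :
    Nat.card (Swap M β) ≤ Nat.card (DQ M β) := by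
  rcases isEmpty_or_nonempty (Swap M β) with h | ⟨⟨u, hu, huβ⟩⟩
  · rw [Nat.card_of_isEmpty]; exact Nat.zero_le _
  obtain ⟨hui, huu, -⟩ := inv_of_invol hu
  have hub := smul_base_of_swap hu huβ
  have hD : ∀ v : Swap M β, u * (v : G) ∈ D M β := by
    rintro ⟨v, hv, hvβ⟩
    show u * v ∈ D M β
    refine mem_inf.2 ⟨mem_norm_of_smul ?_, mem_stabilizer_iff.2 ?_⟩
    · rw [mul_smul, hvβ, hub]
    · rw [mul_smul, smul_base_of_swap hv hvβ, huβ]
  refine Nat.card_le_card_of_injective (fun v : Swap M β =>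
    (⟨pr M ⟨u * (v : G), (hD v).1⟩, mem_map_of_mem _ (mem_subgroupOf.2 (hD v))⟩ : DQ M β))
    fun v w hvw => ?_
  have h1 := congrArg Subtype.val hvw
  rw [← inv_mul_eq_one, ← map_inv, ← map_mul, pr_eq_one] at h1
  refine Subtype.ext (d.eq_of_mem_coset v.2.1 w.2.1 (fun hvN => hβ ?_) ?_)
  · rw [← v.2.2, smul_base hvN]
  · have e : ((v : G))⁻¹ * (w : G) = (u * (v : G))⁻¹ * (u * (w : G)) := by group
    rw [e]
    exact h1

theorem card_DQ_le (β : Pts M) : Nat.card (DQ M β) ≤ k M := card_le_card_group _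

theorem card_stab_le {β : Pts M} (hβ : β ≠ base M) :
    Nat.card ↥(M ⊓ stabilizer G β) ≤ k M := by
  induction β using QuotientGroup.induction_on with | _ g => ?_
  have hg : g ∉ normalizer (M : Set G) := fun h => hβ (by
    simpa using smul_base h)
  have hN : ∀ r : ↥(M ⊓ stabilizer G ((g : G) : Pts M)), g⁻¹ * (r : G) * g ∈ normalizer (M : Set G) := by
    rintro ⟨r, -, hr⟩
    show g⁻¹ * r * g ∈ normalizer (M : Set G)
    refine mem_norm_of_smul ?_
    rw [mul_smul, mul_smul, inv_smul_eq_iff, show g • base M = ((g : G) : Pts M) by simp]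
    exact hr
  refine Nat.card_le_card_of_injective (fun r => pr M ⟨g⁻¹ * (r : G) * g, hN r⟩) fun r s hrs => ?_
  rw [← inv_mul_eq_one, ← map_inv, ← map_mul, pr_eq_one] at hrs
  refine Subtype.ext (inv_mul_eq_one.1 ?_)
  by_contra hne
  refine hg (d.ti g fun hb => hne ?_)
  rw [← mem_bot, ← hb]
  refine ⟨M.mul_mem (M.inv_mem (mem_inf.1 r.2).1) (mem_inf.1 s.2).1, _, hrs, ?_⟩
  show g * ((g⁻¹ * (r : G) * g)⁻¹ * (g⁻¹ * (s : G) * g)) * g⁻¹ = (r : G)⁻¹ * s
  group

/-- If `M` does not move `β` regularly, an involution sends the base point to it only when few do. -/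
theorem irregular {β : Pts M} (hβ : β ≠ base M) {u : G} (hu : orderOf u = 2)
    (huβ : u • base M = β) (hR : M ⊓ stabilizer G β ≠ ⊥) :
    2 * Nat.card (DQ M β) ≤ k M ∧
      Nat.card ↥(M ⊓ stabilizer G β) ≤ Nat.card (DQ M β) := by
  obtain ⟨hui, huu, -⟩ := inv_of_invol hu
  have hub := smul_base_of_swap hu huβ
  have huN : u ∉ normalizer (M : Set G) := fun h => hβ (by rw [← huβ, smul_base h])
  have hDu : ∀ r, r ∈ M ⊓ stabilizer G β → u * r * u ∈ D M β := by
    intro r hr
    refine mem_inf.2 ⟨mem_norm_of_smul ?_, mem_stabilizer_iff.2 ?_⟩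
    · rw [mul_smul, mul_smul, huβ, mem_stabilizer_iff.1 hr.2, hub]
    · rw [mul_smul, mul_smul, hub, smul_base (le_normalizer hr.1), huβ]
  have hdisj : ∀ r ∈ M, u * r * u ∈ M → r = 1 := by
    intro r hr hM
    by_contra hne
    refine huN (d.ti u fun hb => hne ?_)
    have h : u * r * u ∈ M ⊓ M.map (MulAut.conj u).toMonoidHom := ⟨hM, r, hr, by
      show u * r * u⁻¹ = _; rw [hui]⟩
    rw [hb, mem_bot] at h
    calc r = u * (u * r * u) * u := by
          rw [show u * (u * r * u) * u = (u * u) * r * (u * u) by group, huu, one_mul, mul_one]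
      _ = 1 := by rw [h, mul_one, huu]
  have hodd : ∀ a : G, a ∈ D M β → orderOf a ≠ 2 := by
    intro w hw hw2
    obtain ⟨r, hr, hr1⟩ := (bot_or_exists_ne_one _).resolve_left hR
    -- both `w` and its `u`-conjugate invert `r`
    obtain ⟨y, hy, hwy⟩ := d.invol_mem hw2 hw.1
    have hwu : orderOf (u * w * u) = 2 := by
      conv_lhs => arg 1; arg 2; rw [← hui]
      rw [show u * w * u⁻¹ = MulAut.conj u w from rfl, MulEquiv.orderOf_eq, hw2]
    have hwuN : u * w * u ∈ normalizer (M : Set G) := mem_norm_of_smul (by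
      rw [mul_smul, mul_smul, huβ, mem_stabilizer_iff.1 hw.2, hub])
    have h1 := d.conj_invol hwu hwuN hr.1
    have h2 : w * (u * r * u) * w⁻¹ = (u * r * u)⁻¹ := by
      have e : u * (u * w * u * r * (u * w * u)⁻¹) * u = w * (u * r * u) * w⁻¹ := by
        rw [show (u * w * u)⁻¹ = u * w⁻¹ * u by rw [mul_inv_rev, mul_inv_rev, hui, mul_assoc],
          show u * (u * w * u * r * (u * w⁻¹ * u)) * u =
            (u * u) * (w * (u * r * u) * w⁻¹) * (u * u) by group, huu, one_mul, mul_one]
      rw [← e, h1, mul_inv_rev, mul_inv_rev, hui, mul_assoc]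
    have hsq := d.pr_sq (a := ⟨u * r * u, (hDu r hr).1⟩) hy (by rw [← hwy]; exact h2)
    have ho : Odd (orderOf (⟨u * r * u, (hDu r hr).1⟩ : ↥(normalizer (M : Set G)))) := by
      rw [Subgroup.orderOf_mk]
      conv => arg 1; arg 1; arg 2; rw [← hui]
      rw [show u * r * u⁻¹ = MulAut.conj u r from rfl, MulEquiv.orderOf_eq]
      exact d.odd_orderOf hr.1
    obtain ⟨j, hj⟩ := ho
    have e1 : pr M ⟨u * r * u, (hDu r hr).1⟩ ^ orderOf (⟨u * r * u, (hDu r hr).1⟩ :
        ↥(normalizer (M : Set G))) = 1 := by rw [← map_pow, pow_orderOf_eq_one, map_one]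
    rw [hj, pow_succ, pow_mul, pow_two, hsq, one_pow, one_mul] at e1
    exact hr1 (hdisj r hr.1 (pr_eq_one.1 e1))
  refine ⟨?_, ?_⟩
  · have hDodd : Odd (Nat.card (D M β)) := by
      by_contra h
      rw [Nat.not_odd_iff_even] at h
      obtain ⟨⟨a, ha⟩, ha2⟩ := exists_prime_orderOf_dvd_card' 2 (G := D M β)
        (hp := ⟨Nat.prime_two⟩) h.two_dvd
      rw [Subgroup.orderOf_mk] at ha2
      exact hodd a ha ha2
    have hQodd : Odd (Nat.card (DQ M β)) := hDodd.of_dvd_nat
      ((Subgroup.card_map_dvd _ _).trans (Nat.card_congr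
        (subgroupOfEquivOfLe (show D M β ≤ normalizer (M : Set G) from inf_le_left)).toEquiv).dvd)
    have h2 : 2 ∣ k M := by
      rw [← d.pr_z_orderOf]; exact orderOf_dvd_natCard _
    obtain ⟨i, hi⟩ := (DQ M β).card_subgroup_dvd_card
    rw [k, hi] at h2 ⊢
    have hi2 : 2 ≤ i := by
      refine Nat.le_of_dvd ?_ ((Nat.prime_two.dvd_mul.1 h2).resolve_left (not_two_dvd_of_odd hQodd))
      exact Nat.pos_of_ne_zero fun h0 => by
        rw [h0, mul_zero] at hi; exact Nat.card_pos.ne' hi
    calc 2 * Nat.card (DQ M β) = Nat.card (DQ M β) * 2 := mul_comm _ _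
      _ ≤ _ := Nat.mul_le_mul_left _ hi2
  · refine Nat.card_le_card_of_injective (fun r : ↥(M ⊓ stabilizer G β) =>
      (⟨pr M ⟨u * (r : G) * u, (hDu r r.2).1⟩,
        mem_map_of_mem _ (mem_subgroupOf.2 (hDu r r.2))⟩ : DQ M β)) fun r s hrs => ?_
    have h1 := congrArg Subtype.val hrs
    rw [← inv_mul_eq_one, ← map_inv, ← map_mul, pr_eq_one] at h1
    refine Subtype.ext (inv_mul_eq_one.1 (hdisj _ (mul_mem (inv_mem (mem_inf.1 r.2).1) (mem_inf.1 s.2).1) ?_))
    have e : u * ((r : G)⁻¹ * s) * u = (u * (r : G) * u)⁻¹ * (u * (s : G) * u) := by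
      rw [mul_inv_rev, mul_inv_rev, hui,
        show u * ((r : G)⁻¹ * u) * (u * (s : G) * u) = u * (r : G)⁻¹ * (u * u) * s * u by group,
        huu, mul_one]
      group
    rw [e]
    exact h1

theorem defect {β : Pts M} (hβ : β ≠ base M)
    (h : ¬ (M ⊓ stabilizer G β = ⊥ ∧ Nat.card (Swap M β) = k M)) :
    Nat.card ↥(M ⊓ stabilizer G β) + Nat.card (Swap M β) ≤ k M := by
  have hle := d.card_swap_le hβ
  have hle' := d.card_DQ_le β
  by_cases hR : M ⊓ stabilizer G β = ⊥
  · have hlt : Nat.card (Swap M β) ≠ k M := fun e => h ⟨hR, e⟩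
    rw [hR, card_bot]
    omega
  · rcases isEmpty_or_nonempty (Swap M β) with he | ⟨⟨u, hu, huβ⟩⟩
    · rw [Nat.card_of_isEmpty (α := Swap M β)]
      exact d.card_stab_le hβ
    · obtain ⟨h1, h2⟩ := d.irregular hβ hu huβ hR
      omega

omit d in
theorem card_swap_smul {M : Subgroup G} (y : G) (hy : y ∈ normalizer (M : Set G)) (β : Pts M) :
    Nat.card (Swap M (y • β)) = Nat.card (Swap M β) := by
  refine Nat.card_congr
    { toFun := fun v => ⟨y⁻¹ * (v : G) * y, ?_, ?_⟩
      invFun := fun v => ⟨y * (v : G) * y⁻¹, ?_, ?_⟩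
      left_inv := fun v => Subtype.ext (by group)
      right_inv := fun v => Subtype.ext (by group) }
  · conv_lhs => arg 1; arg 2; rw [← inv_inv y]
    rw [show y⁻¹ * (v : G) * y⁻¹⁻¹ = MulAut.conj y⁻¹ v from rfl, MulEquiv.orderOf_eq, v.2.1]
  · rw [mul_smul, mul_smul, smul_base hy, v.2.2, inv_smul_smul]
  · rw [show y * (v : G) * y⁻¹ = MulAut.conj y v from rfl, MulEquiv.orderOf_eq, v.2.1]
  · rw [mul_smul, mul_smul, smul_base (inv_mem hy), v.2.2]

/-- Every point other than the base point is moved regularly by `M`, and receives the base point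
under `|N(M) : M|` involutions. -/
theorem full {β : Pts M} (hβ : β ≠ base M) :
    M ⊓ stabilizer G β = ⊥ ∧ Nat.card (Swap M β) = k M := by
  classical
  by_contra hbad
  haveI := Fintype.ofFinite (Pts M)
  have hdef := d.defect hβ hbad
  -- the total number of involutions
  have htot : Nat.card {g : G // orderOf g = 2} = ∑ γ : Pts M, Nat.card (Swap M γ) := by
    rw [← Nat.card_congr (Equiv.sigmaFiberEquiv fun g : {g : G // orderOf g = 2} =>
      (g : G) • base M), Nat.card_sigma]
    refine Finset.sum_congr rfl fun γ _ => Nat.card_congr ?_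
    exact
      { toFun := fun v => ⟨v.1.1, v.1.2, v.2⟩
        invFun := fun v => ⟨⟨v.1, v.2.1⟩, v.2.2⟩
        left_inv := fun v => rfl
        right_inv := fun v => rfl }
  have hidx : M.index = k M * Nat.card (Pts M) := by
    rw [← relIndex_mul_index (Subgroup.le_normalizer (H := M))]
    rfl
  have hlt := d.many
  rw [htot, hidx, Nat.card_eq_fintype_card] at hlt
  set O : Finset (Pts M) := Finset.univ.filter (fun γ => γ ∈ orbit M β) with hO
  have hOnot : base M ∉ O := by
    rw [hO, Finset.mem_filter]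
    rintro ⟨-, y, hy⟩
    exact hβ (smul_left_cancel (y : G) (hy.trans (smul_base (le_normalizer y.2)).symm))
  have hOF : ∀ γ ∈ O, Nat.card (Swap M γ) = Nat.card (Swap M β) := by
    intro γ hγ
    obtain ⟨y, rfl⟩ := (Finset.mem_filter.1 hγ).2
    exact card_swap_smul _ (le_normalizer y.2) β
  have hOcard : O.card * Nat.card ↥(M ⊓ stabilizer G β) = Nat.card M := by
    have e1 : O.card = Nat.card (orbit M β) := by
      rw [hO, ← Fintype.card_subtype, ← Nat.card_eq_fintype_card]
    have e2 : Nat.card ↥(M ⊓ stabilizer G β) = Nat.card (stabilizer M β) := Nat.card_congr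
      { toFun := fun r => ⟨⟨r.1, r.2.1⟩, r.2.2⟩
        invFun := fun r => ⟨r.1.1, r.1.2, r.2⟩
        left_inv := fun r => rfl
        right_inv := fun r => rfl }
    rw [e1, e2, ← Nat.card_prod]
    exact Nat.card_congr (orbitProdStabilizerEquivGroup M β)
  -- lower bound for the defect
  have hle : ∀ γ : Pts M, γ ≠ base M → Nat.card (Swap M γ) ≤ k M := fun γ hγ =>
    (d.card_swap_le hγ).trans (d.card_DQ_le γ)
  set rest := Finset.univ.erase (base M) \ O with hrest
  have hsub : O ⊆ Finset.univ.erase (base M) := fun γ hγ =>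
    Finset.mem_erase.2 ⟨fun e => hOnot (e ▸ hγ), Finset.mem_univ _⟩
  rw [← Finset.add_sum_erase _ _ (Finset.mem_univ (base M)), d.card_swap_base,
    ← Finset.sum_sdiff hsub, ← hrest, Finset.sum_congr rfl hOF, Finset.sum_const,
    smul_eq_mul] at hlt
  have hrest' : ∑ γ ∈ rest, Nat.card (Swap M γ) ≤ rest.card * k M :=
    Finset.sum_le_card_nsmul _ _ _ fun γ hγ =>
      hle γ (Finset.mem_erase.1 (Finset.mem_sdiff.1 hγ).1).1
  have hcard : rest.card + O.card + 1 = Fintype.card (Pts M) := by
    rw [hrest, Finset.card_sdiff_add_card_eq_card hsub, Finset.card_erase_add_one (Finset.mem_univ _),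
      Finset.card_univ]
  have h1 := Nat.mul_le_mul_left O.card hdef
  rw [mul_add, hOcard] at h1
  have hk : 0 < k M := Nat.card_pos
  rw [← hcard] at hlt
  nlinarith

end LTI

end CfsgLib.LargeTI
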