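import Mathlib
import Cfsg.Agent.Lib.LocalEven.LargeTI.Count

/-!
Two-point stabilisers are abelian, inverted by every element exchanging the points, and the fixed
points of `z` meet every regular `M`-orbit once.
-/

set_option autoImplicit false
set_option linter.style.haveILetI false

namespace CfsgLib.LargeTI

open Subgroup CfsgLib.Base MulAction

universe u

variable {G : Type u} [Group G] [Finite G]

namespace LTI

variable {M : Subgroup G} {z : G} (d : LTI M z)
include d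

theorem eq_one_of_fix {β : Pts M} (hβ : β ≠ base M) {x : G} (hx : x ∈ M) (h : x • β = β) :
    x = 1 := by
  rw [← mem_bot, ← (d.full hβ).1]
  exact mem_inf.2 ⟨hx, mem_stabilizer_iff.2 h⟩

theorem exists_swap {β : Pts M} (hβ : β ≠ base M) : ∃ u : G, orderOf u = 2 ∧ u • base M = β := by
  have h : 0 < Nat.card (Swap M β) := (d.full hβ).2 ▸ Nat.card_pos
  obtain ⟨⟨u, hu⟩⟩ := (Nat.card_pos_iff.1 h).1
  exact ⟨u, hu⟩

theorem pr_inj {β : Pts M} (hβ : β ≠ base M) {a b : G} (ha : a ∈ D M β) (hb : b ∈ D M β)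
    (h : pr M ⟨a, ha.1⟩ = pr M ⟨b, hb.1⟩) : a = b := by
  rw [← inv_mul_eq_one, ← map_inv, ← map_mul, pr_eq_one] at h
  exact inv_mul_eq_one.1 (d.eq_one_of_fix hβ h
    (mem_stabilizer_iff.1 (mul_mem (inv_mem (mem_inf.1 ha).2) (mem_inf.1 hb).2)))

theorem D_spec {β : Pts M} (hβ : β ≠ base M) {u : G} (hu : orderOf u = 2)
    (huβ : u • base M = β) :
    (∀ a ∈ D M β, u * a * u⁻¹ = a⁻¹) ∧ Nat.card (D M β) = k M := by
  obtain ⟨hui, huu, -⟩ := inv_of_invol hu
  have hub := smul_base_of_swap hu huβ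
  have hD : ∀ v : Swap M β, u * (v : G) ∈ D M β := by
    rintro ⟨v, hv, hvβ⟩
    show u * v ∈ D M β
    refine mem_inf.2 ⟨mem_norm_of_smul ?_, mem_stabilizer_iff.2 ?_⟩
    · rw [mul_smul, hvβ, hub]
    · rw [mul_smul, smul_base_of_swap hv hvβ, huβ]
  let f : Swap M β → D M β := fun v => ⟨u * (v : G), hD v⟩
  have hf : Function.Injective f := fun v w h =>
    Subtype.ext (mul_left_cancel (congrArg Subtype.val h :))
  have hle : Nat.card (D M β) ≤ k M := Nat.card_le_card_of_injective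
    (fun a : D M β => pr M ⟨a, a.2.1⟩) fun a b h => Subtype.ext (d.pr_inj hβ a.2 b.2 h)
  have hge : k M ≤ Nat.card (D M β) := by
    rw [← (d.full hβ).2]; exact Nat.card_le_card_of_injective f hf
  refine ⟨fun a ha => ?_, le_antisymm hle hge⟩
  obtain ⟨⟨v, hv, hvβ⟩, hva⟩ := ((Nat.bijective_iff_injective_and_card f).2
    ⟨hf, by rw [(d.full hβ).2]; exact le_antisymm hge hle⟩).2 ⟨a, ha⟩
  have e : u * v = a := congrArg Subtype.val hva
  rw [← e, mul_inv_rev, hui, (inv_of_invol hv).1,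
    show u * (u * v) * u = (u * u) * (v * u) by group, huu, one_mul]

theorem card_D {β : Pts M} (hβ : β ≠ base M) : Nat.card (D M β) = k M := by
  obtain ⟨u, hu, huβ⟩ := d.exists_swap hβ
  exact (d.D_spec hβ hu huβ).2

theorem D_comm {β : Pts M} (hβ : β ≠ base M) {a b : G} (ha : a ∈ D M β) (hb : b ∈ D M β) :
    a * b = b * a := by
  obtain ⟨u, hu, huβ⟩ := d.exists_swap hβ
  have h := (d.D_spec hβ hu huβ).1
  have hab := h _ (mul_mem ha hb)
  rw [show u * (a * b) * u⁻¹ = (u * a * u⁻¹) * (u * b * u⁻¹) by group, h a ha, h b hb,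
    ← mul_inv_rev, inv_inj] at hab
  exact hab.symm

theorem two_dvd_k : 2 ∣ k M := by
  rw [← d.pr_z_orderOf]; exact orderOf_dvd_natCard _

theorem D_invol_unique {β : Pts M} (hβ : β ≠ base M) {a b : G} (ha : a ∈ D M β) (hb : b ∈ D M β)
    (ha2 : orderOf a = 2) (hb2 : orderOf b = 2) : a = b := by
  obtain ⟨y, hy, rfl⟩ := d.invol_mem ha2 ha.1
  obtain ⟨y', hy', rfl⟩ := d.invol_mem hb2 hb.1
  congr 1
  refine mul_inv_eq_one.1 (d.eq_one_of_fix hβ (mul_mem hy (inv_mem hy')) ?_)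
  have h : y * z * (y' * z)⁻¹ ∈ D M β := mul_mem ha (inv_mem hb)
  rw [show y * z * (y' * z)⁻¹ = y * y'⁻¹ by group] at h
  exact mem_stabilizer_iff.1 h.2

theorem exists_fixing {β : Pts M} (hβ : β ≠ base M) : ∃ y ∈ M, (y * z) • β = β := by
  obtain ⟨⟨a, ha⟩, ha2⟩ := exists_prime_orderOf_dvd_card' 2 (G := D M β)
    (hp := ⟨Nat.prime_two⟩) (by rw [d.card_D hβ]; exact d.two_dvd_k)
  rw [Subgroup.orderOf_mk] at ha2
  obtain ⟨y, hy, rfl⟩ := d.invol_mem ha2 ha.1
  exact ⟨y, hy, mem_stabilizer_iff.1 ha.2⟩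

omit d in
/-- `N(M) ∩ C(z)`. -/
abbrev K (M : Subgroup G) (z : G) : Subgroup G :=
  normalizer (M : Set G) ⊓ centralizer ({z} : Set G)

theorem z_mem_K : z ∈ K M z := mem_inf.2 ⟨d.mem_norm, mem_centralizer_singleton_iff.2 rfl⟩

theorem eq_one_of_mem_K {x : G} (hx : x ∈ M) (hK : x ∈ K M z) : x = 1 :=
  d.not_commute d.ord hx (mem_centralizer_singleton_iff.1 hK.2).symm

theorem card_K : Nat.card (K M z) = k M := by
  refine Nat.card_congr (Equiv.ofBijective (fun a : K M z => pr M ⟨a, a.2.1⟩) ⟨?_, ?_⟩)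
  · intro a b h
    simp only at h
    rw [← inv_mul_eq_one, ← map_inv, ← map_mul, pr_eq_one] at h
    exact Subtype.ext (inv_mul_eq_one.1 (d.eq_one_of_mem_K h (mul_mem (inv_mem a.2) b.2)))
  · intro q
    obtain ⟨a, rfl⟩ := QuotientGroup.mk'_surjective (MN M) q
    have h : a ∈ MN M ⊔ (K M z).subgroupOf (normalizer (M : Set G)) := by
      rw [← subgroupOf_sup Subgroup.le_normalizer inf_le_left, mem_subgroupOf, d.fac]
      exact a.2
    obtain ⟨y, hy, b, hb, rfl⟩ := mem_sup_of_normal_left.1 h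
    refine ⟨⟨b, mem_subgroupOf.1 hb⟩, ?_⟩
    show pr M b = QuotientGroup.mk' (MN M) (y * b)
    rw [map_mul, show QuotientGroup.mk' (MN M) y = 1 from pr_eq_one.2 (mem_subgroupOf.1 hy), one_mul]

theorem D_eq_K {β : Pts M} (hβ : β ≠ base M) (hz : z • β = β) : D M β = K M z :=
  eq_of_le_of_card_ge (fun a ha => mem_inf.2 ⟨ha.1, mem_centralizer_singleton_iff.2
    (d.D_comm hβ ha (mem_inf.2 ⟨d.mem_norm, mem_stabilizer_iff.2 hz⟩))⟩)
    (by rw [d.card_K, d.card_D hβ])

theorem K_fix {β : Pts M} (hz : z • β = β) {a : G} (ha : a ∈ K M z) : a • β = β := by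
  by_cases hβ : β = base M
  · rw [hβ]; exact smul_base ha.1
  · exact mem_stabilizer_iff.1 ((d.D_eq_K hβ hz).symm ▸ ha : a ∈ D M β).2

theorem exists_pair : ∃ β : Pts M, β ≠ base M ∧ z • β = β := by
  obtain ⟨g, hg⟩ : ∃ g : G, g ∉ normalizer (M : Set G) := by
    by_contra h
    push Not at h
    exact d.not_normal (normalizer_eq_top_iff.1 (eq_top_iff.2 fun g _ => h g))
  have hβ : g • base M ≠ base M := fun h => hg (mem_norm_of_smul h)
  obtain ⟨y, hy, hfix⟩ := d.exists_fixing hβ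
  obtain ⟨x, hx, hxy⟩ := d.exists_sqrt hy
  refine ⟨x⁻¹ • g • base M, fun h => hβ ?_, ?_⟩
  · rw [inv_smul_eq_iff] at h
    rw [h, smul_base (le_normalizer hx)]
  · have e : z * x⁻¹ = x⁻¹ * (y * z) := by
      calc z * x⁻¹ = (z * x * z⁻¹)⁻¹ * z := by group
        _ = x * z := by rw [d.inv hx, inv_inv]
        _ = _ := by rw [← hxy]; group
    rw [← mul_smul, e, mul_smul, hfix]

/-- The fixed points of `z` other than the base point. -/
abbrev Fix' (M : Subgroup G) (z : G) : Type u := {β : Pts M // β ≠ base M ∧ z • β = β}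

theorem card_moved :
    Nat.card {β : Pts M // β ≠ base M} = Nat.card M * Nat.card (Fix' M z) := by
  rw [← Nat.card_prod]
  refine (Nat.card_congr (Equiv.ofBijective (fun q : M × Fix' M z =>
    (⟨(q.1 : G) • q.2.1, fun h => q.2.2.1 ?_⟩ : {β : Pts M // β ≠ base M})) ⟨?_, ?_⟩)).symm
  · rwa [← eq_inv_smul_iff, smul_base (inv_mem (le_normalizer q.1.2))] at h
  · rintro ⟨⟨a, ha⟩, ⟨β, hβ, hz⟩⟩ ⟨⟨b, hb⟩, ⟨γ, hγ, hz'⟩⟩ h
    have h' : a • β = b • γ := congrArg Subtype.val h
    have hx : b⁻¹ * a ∈ M := mul_mem (inv_mem hb) ha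
    have h1 : (b⁻¹ * a) • β = γ := by rw [mul_smul, h', inv_smul_smul]
    have h2 : (b⁻¹ * a)⁻¹ • β = γ := by
      rw [← d.inv hx, mul_smul, mul_smul, d.z_inv, hz, h1, hz']
    have h3 : ((b⁻¹ * a) * (b⁻¹ * a)) • β = β := by
      rw [mul_smul]
      conv_lhs => rw [h1, ← h2]
      rw [smul_inv_smul]
    have h4 : b⁻¹ * a = 1 := d.eq_one_of_sq hx (d.eq_one_of_fix hβ (mul_mem hx hx) h3)
    obtain rfl : b = a := inv_mul_eq_one.1 h4
    rw [smul_left_cancel_iff] at h'
    subst h'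
    rfl
  · rintro ⟨β, hβ⟩
    obtain ⟨y, hy, hfix⟩ := d.exists_fixing hβ
    obtain ⟨x, hx, hxy⟩ := d.exists_sqrt hy
    refine ⟨(⟨x, hx⟩, ⟨x⁻¹ • β, fun h => hβ ?_, ?_⟩), Subtype.ext (smul_inv_smul x β)⟩
    · rw [inv_smul_eq_iff] at h
      rw [h, smul_base (le_normalizer hx)]
    · have e : z * x⁻¹ = x⁻¹ * (y * z) := by
        calc z * x⁻¹ = (z * x * z⁻¹)⁻¹ * z := by group
          _ = x * z := by rw [d.inv hx, inv_inv]
          _ = _ := by rw [← hxy]; group
      rw [← mul_smul, e, mul_smul, hfix]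

theorem card_pts : Nat.card (Pts M) = 1 + Nat.card M * Nat.card (Fix' M z) := by
  classical
  haveI := Fintype.ofFinite (Pts M)
  rw [← d.card_moved, Nat.card_eq_fintype_card, Nat.card_eq_fintype_card,
    Fintype.card_subtype_compl, Fintype.card_subtype_eq]
  have := Fintype.card_pos (α := Pts M)
  omega

omit d in
theorem card_group {M : Subgroup G} :
    Nat.card G = Nat.card (Pts M) * (Nat.card M * k M) := by
  rw [← (normalizer (M : Set G)).card_mul_index, mul_comm]
  congr 1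
  rw [card_eq_card_quotient_mul_card_subgroup (MN M), mul_comm,
    Nat.card_congr (subgroupOfEquivOfLe (Subgroup.le_normalizer (H := M))).toEquiv]

theorem swap_comm {β : Pts M} (hβ : β ≠ base M) (hz : z • β = β) {u : G} (hu : orderOf u = 2)
    (huβ : u • base M = β) : u ∈ centralizer ({z} : Set G) := by
  have h := (d.D_spec hβ hu huβ).1 z (mem_inf.2 ⟨d.mem_norm, mem_stabilizer_iff.2 hz⟩)
  rw [d.z_inv] at h
  exact mem_centralizer_singleton_iff.2 (mul_inv_eq_iff_eq_mul.1 h)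

theorem card_centralizer :
    Nat.card ↥(centralizer ({z} : Set G)) = (1 + Nat.card (Fix' M z)) * k M := by
  classical
  rw [← Nat.card_congr (orbitProdStabilizerEquivGroup ↥(centralizer ({z} : Set G)) (base M)),
    Nat.card_prod, ← d.card_K]
  congr 1
  · have e : orbit ↥(centralizer ({z} : Set G)) (base M) = {β : Pts M | z • β = β} := by
      ext β
      constructor
      · rintro ⟨⟨g, hg⟩, rfl⟩
        show z • g • base M = g • base M
        rw [← mul_smul, ← mem_centralizer_singleton_iff.1 hg, mul_smul, smul_base d.mem_norm]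
      · intro hz
        by_cases hβ : β = base M
        · rw [hβ]; exact mem_orbit_self _
        · obtain ⟨u, hu, huβ⟩ := d.exists_swap hβ
          exact ⟨⟨u, d.swap_comm hβ hz hu huβ⟩, huβ⟩
    rw [e]
    haveI := Fintype.ofFinite (Pts M)
    rw [Nat.card_eq_fintype_card, Nat.card_eq_fintype_card]
    have hins : (Finset.univ.filter fun β : Pts M => z • β = β) =
        insert (base M) (Finset.univ.filter fun β : Pts M => β ≠ base M ∧ z • β = β) := by
      ext β
      by_cases hβ : β = base M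
      · simp [hβ, smul_base d.mem_norm]
      · simp [hβ]
    show Fintype.card {β : Pts M // z • β = β} = _
    rw [Fintype.card_subtype, Fintype.card_subtype, hins,
      Finset.card_insert_of_notMem (by simp), add_comm]
  · exact Nat.card_congr
      { toFun := fun a => ⟨a.1.1, mem_norm_of_smul a.2, a.1.2⟩
        invFun := fun a => ⟨⟨a.1, a.2.2⟩, smul_base a.2.1⟩
        left_inv := fun a => rfl
        right_inv := fun a => rfl }

end LTI

end CfsgLib.LargeTI
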