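import Mathlib
import Cfsg.Agent.Lib.LocalEven.LargeTI.Pair
import Cfsg.Agent.Lib.Classical.Dihedral

/-!
If `z` fixes more than two points then `|N(M) : M| = 2`; the number of involutions.
-/

set_option autoImplicit false
set_option linter.style.haveILetI false

namespace CfsgLib.LargeTI

open Subgroup CfsgLib.Base MulAction

universe u

variable {G : Type u} [Group G] [Finite G]

namespace LTI

variable {M : Subgroup G} {z : G} (d : LTI M z)
include d

theorem card_invol :
    Nat.card {g : G // orderOf g = 2} = Nat.card M + (Nat.card (Pts M) - 1) * k M := by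
  classical
  haveI := Fintype.ofFinite (Pts M)
  rw [← Nat.card_congr (Equiv.sigmaFiberEquiv fun g : {g : G // orderOf g = 2} =>
      (g : G) • base M), Nat.card_sigma, ← Finset.add_sum_erase _ _ (Finset.mem_univ (base M)),
    Finset.sum_eq_card_nsmul (b := k M) fun γ hγ => ?_,
    Finset.card_erase_of_mem (Finset.mem_univ _), Finset.card_univ, Nat.card_eq_fintype_card
      (α := Pts M), smul_eq_mul]
  · congr 1
    rw [← d.card_swap_base]
    exact Nat.card_congr
      { toFun := fun v => ⟨v.1.1, v.1.2, v.2⟩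
        invFun := fun v => ⟨⟨v.1, v.2.1⟩, v.2.2⟩
        left_inv := fun v => rfl
        right_inv := fun v => rfl }
  · rw [← (d.full (Finset.mem_erase.1 hγ).1).2]
    exact Nat.card_congr
      { toFun := fun v => ⟨v.1.1, v.1.2, v.2⟩
        invFun := fun v => ⟨⟨v.1, v.2.1⟩, v.2.2⟩
        left_inv := fun v => rfl
        right_inv := fun v => rfl }

theorem k_lt : k M < Nat.card M := by
  have h1 : M.index = k M * Nat.card (Pts M) := by
    rw [← relIndex_mul_index (Subgroup.le_normalizer (H := M))]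
    rfl
  have h := d.many
  rw [h1, d.card_invol] at h
  have hpos : 0 < Nat.card (Pts M) := Nat.card_pos
  obtain ⟨j, hj⟩ := Nat.exists_eq_add_of_le hpos
  rw [hj] at h
  simp only [Nat.succ_eq_add_one, zero_add, Nat.add_sub_cancel_left, mul_add, mul_one] at h
  nlinarith

theorem three_le : 3 ≤ Nat.card M := by
  have h := d.k_lt
  have h2 : 2 ≤ k M := Nat.le_of_dvd Nat.card_pos d.two_dvd_k
  omega

theorem K_comm {a b : G} (ha : a ∈ K M z) (hb : b ∈ K M z) : a * b = b * a := by
  obtain ⟨β, hβ, hz⟩ := d.exists_pair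
  rw [← d.D_eq_K hβ hz] at ha hb
  exact d.D_comm hβ ha hb

theorem K_invol {a : G} (ha : a ∈ K M z) (ha2 : orderOf a = 2) : a = z := by
  obtain ⟨β, hβ, hz⟩ := d.exists_pair
  have hzK := d.z_mem_K
  rw [← d.D_eq_K hβ hz] at ha hzK
  exact d.D_invol_unique hβ ha hzK ha2 d.ord

omit d in
theorem smul_fixed {β : Pts M} {g : G} (hz : z • β = β) (hg : g ∈ centralizer ({z} : Set G)) :
    z • g • β = g • β := by
  rw [← mul_smul, ← mem_centralizer_singleton_iff.1 hg, mul_smul, hz]

/-- If `z` fixes at least three points then `N(M)` is twice as large as `M`. -/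
theorem k_eq_two (h : 2 ≤ Nat.card (Fix' M z)) : k M = 2 := by
  classical
  haveI := Fintype.ofFinite (Fix' M z)
  rw [Nat.card_eq_fintype_card] at h
  obtain ⟨⟨β, hβ, hzβ⟩, ⟨γ, hγ, hzγ⟩, hne⟩ := Fintype.exists_pair_of_one_lt_card h
  replace hne : β ≠ γ := fun e => hne (Subtype.ext e)
  obtain ⟨u, hu, huβ⟩ := d.exists_swap hβ
  obtain ⟨v, hv, hvγ⟩ := d.exists_swap hγ
  have hub := smul_base_of_swap hu huβ
  have hvb := smul_base_of_swap hv hvγ
  have huC := d.swap_comm hβ hzβ hu huβ
  have hvC := d.swap_comm hγ hzγ hv hvγ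
  set δ := v • β with hδ
  have hδ1 : δ ≠ base M := fun e => hne (smul_left_cancel v (e.trans hvb.symm))
  have hzδ : z • δ = δ := smul_fixed hzβ hvC
  obtain ⟨w, hw, hwδ⟩ := d.exists_swap hδ1
  have hwC := d.swap_comm hδ1 hzδ hw hwδ
  have hK : (v * u)⁻¹ * w ∈ K M z := by
    refine mem_inf.2 ⟨mem_norm_of_smul ?_, mul_mem (inv_mem (mul_mem hvC huC)) hwC⟩
    rw [mul_smul, inv_smul_eq_iff, hwδ, mul_smul, huβ]
  have hsq : ∀ a ∈ K M z, a = 1 ∨ a = z := by
    intro a ha
    by_cases ha1 : a = 1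
    · exact Or.inl ha1
    refine Or.inr (d.K_invol ha (orderOf_eq_prime ?_ ha1))
    have hi := (d.D_spec hδ1 hw hwδ).1 a ((d.D_eq_K hδ1 hzδ).symm ▸ ha)
    have h1 := (d.D_spec hβ hu huβ).1 a ((d.D_eq_K hβ hzβ).symm ▸ ha)
    have h2 := (d.D_spec hγ hv hvγ).1 a⁻¹ (inv_mem ((d.D_eq_K hγ hzγ).symm ▸ ha))
    have h3 : v * u * a * (v * u)⁻¹ = a := by
      rw [show v * u * a * (v * u)⁻¹ = v * (u * a * u⁻¹) * v⁻¹ by group, h1, h2, inv_inv]
    set q := (v * u)⁻¹ * w with hq
    have h4 : w * a * w⁻¹ = a := by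
      rw [show w = v * u * q by rw [hq, mul_inv_cancel_left],
        show v * u * q * a * (v * u * q)⁻¹ = v * u * (q * a * q⁻¹) * (v * u)⁻¹ by group,
        d.K_comm hK ha, mul_inv_cancel_right, h3]
    rw [h4] at hi
    rw [pow_two]
    exact mul_eq_one_iff_eq_inv.2 hi
  rw [← d.card_K]
  refine le_antisymm ?_ ?_
  · calc Nat.card (K M z) ≤ Nat.card ({1, z} : Set G) :=
          Nat.card_mono (Set.toFinite _) fun a ha => by
            rcases hsq a ha with rfl | rfl <;> simp
      _ ≤ 2 := by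
          rw [Nat.card_coe_set_eq]
          exact Set.ncard_insert_le _ _ |>.trans (by simp)
  · rw [d.card_K]
    exact Nat.le_of_dvd Nat.card_pos d.two_dvd_k

theorem norm_dihedral (hk : k M = 2) (hc : IsCyclic M) :
    Nonempty (↥(normalizer (M : Set G)) ≃* DihedralGroup (Nat.card M)) := by
  obtain ⟨⟨x, hx⟩, hgen⟩ := IsCyclic.exists_ofOrder_eq_natCard (α := M)
  rw [Subgroup.orderOf_mk] at hgen
  refine CfsgLib.Classical.nonempty_mulEquiv_dihedralGroup (x := ⟨x, le_normalizer hx⟩)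
    (s := ⟨z, d.mem_norm⟩) Nat.card_pos (by rw [Subgroup.orderOf_mk, hgen])
    (Subtype.ext d.z_sq) (Subtype.ext (d.inv hx)) (fun h => ?_) ?_
  · obtain ⟨j, hj⟩ := mem_zpowers_iff.1 h
    have hz : z ∈ M := by
      rw [show z = x ^ j by simpa using (congrArg Subtype.val hj).symm]
      exact zpow_mem hx j
    exact d.z_ne (d.eq_one_of_sq hz d.z_sq)
  · rw [card_eq_card_quotient_mul_card_subgroup (MN M),
      Nat.card_congr (subgroupOfEquivOfLe (Subgroup.le_normalizer (H := M))).toEquiv]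
    show k M * _ = _
    rw [hk]

end LTI

end CfsgLib.LargeTI
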