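import Mathlib
import Cfsg.Agent.Lib.LocalEven.LargeTI.Two
import Cfsg.Agent.Lib.LocalEven.LargeTI.PGLInverted
import Cfsg.Agent.Lib.Perm.ZassG.Half
import Cfsg.Agent.Lib.Perm.ZassG.PSL

/-!
If `z` fixes two points only, the group is `PGL(2, q)`, `PSL(2, q)` or `S₄`.
-/

set_option autoImplicit false
set_option linter.style.haveILetI false

namespace CfsgLib.LargeTI

open Subgroup CfsgLib.Base MulAction

universe u

variable {G : Type u} [Group G] [Finite G]

namespace LTI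

variable {M : Subgroup G} {z : G} (d : LTI M z) (hc : Nat.card (Fix' M z) = 1)
include d hc

theorem card_pts_A : Nat.card (Pts M) = Nat.card M + 1 := by
  rw [d.card_pts, hc, mul_one, add_comm]

theorem exists_M_move {β γ : Pts M} (hβ : β ≠ base M) (hγ : γ ≠ base M) :
    ∃ y ∈ M, y • β = γ := by
  let f : M → {δ : Pts M // δ ≠ base M} := fun y => ⟨(y : G) • β, fun h => hβ (by
    rwa [← eq_inv_smul_iff, smul_base (inv_mem (le_normalizer y.2))] at h)⟩
  have hf : Function.Injective f := by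
    intro a b h
    have h' : (a : G) • β = (b : G) • β := congrArg Subtype.val h
    refine Subtype.ext (inv_mul_eq_one.1 (d.eq_one_of_fix hβ (mul_mem (inv_mem b.2) a.2) ?_)).symm
    rw [mul_smul, h', inv_smul_smul]
  obtain ⟨y, hy⟩ := ((Nat.bijective_iff_injective_and_card f).2
    ⟨hf, by rw [d.card_moved, hc, mul_one]⟩).2 ⟨γ, hγ⟩
  exact ⟨y, y.2, congrArg Subtype.val hy⟩

theorem two_trans : IsMultiplyPretransitive G (Pts M) 2 := by
  have key : ∀ a b : Pts M, a ≠ b → ∀ β, β ≠ base M → ∃ g : G, g • base M = a ∧ g • β = b := by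
    intro a b hab β hβ
    obtain ⟨g, hg⟩ := exists_smul_eq G (base M) a
    have hb : g⁻¹ • b ≠ base M := fun h => hab (by rw [← hg, ← h, smul_inv_smul])
    obtain ⟨y, hy, hyb⟩ := d.exists_M_move hc hβ hb
    exact ⟨g * y, by rw [mul_smul, smul_base (le_normalizer hy), hg],
      by rw [mul_smul, hyb, smul_inv_smul]⟩
  rw [is_two_pretransitive_iff]
  intro a b a' b' hab hab'
  obtain ⟨β, hβ, -⟩ := d.exists_pair
  obtain ⟨g, hg1, hg2⟩ := key a b hab β hβ
  obtain ⟨g', hg1', hg2'⟩ := key a' b' hab' β hβ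
  exact ⟨g' * g⁻¹, by rw [mul_smul, ← hg1, inv_smul_smul, hg1'],
    by rw [mul_smul, ← hg2, inv_smul_smul, hg2']⟩

theorem fix_unique {β γ : Pts M} (hβ : β ≠ base M) (hzβ : z • β = β) (hγ : γ ≠ base M)
    (hzγ : z • γ = γ) : β = γ := by
  obtain ⟨h, -⟩ := Nat.card_eq_one_iff_unique.1 hc
  exact congrArg Subtype.val (h.elim ⟨β, hβ, hzβ⟩ ⟨γ, hγ, hzγ⟩ :)

theorem eq_one_of_three_base {β γ : Pts M} (hβ : β ≠ base M) (hzβ : z • β = β) (hγ : γ ≠ base M)
    (hne : β ≠ γ) {a : G} (haα : a • base M = base M) (haβ : a • β = β) (haγ : a • γ = γ) :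
    a = 1 := by
  by_contra ha1
  have haD : a ∈ D M β := mem_inf.2 ⟨mem_norm_of_smul haα, mem_stabilizer_iff.2 haβ⟩
  have haK : a ∈ K M z := d.D_eq_K hβ hzβ ▸ haD
  have hfixpow : ∀ {δ : Pts M}, a • δ = δ → ∀ j : ℕ, a ^ j • δ = δ := fun {δ} h j =>
    mem_stabilizer_iff.1 (pow_mem (mem_stabilizer_iff.2 h) j)
  -- `a` has odd order
  have hodd : Odd (orderOf a) := by
    by_contra hev
    rw [Nat.not_odd_iff_even] at hev
    obtain ⟨j, hj⟩ := hev
    have hj0 : 0 < j := by have := orderOf_pos a; omega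
    have hord : orderOf (a ^ j) = 2 := by
      rw [orderOf_pow' _ hj0.ne', Nat.gcd_eq_right ⟨2, by omega⟩, hj]
      exact Nat.div_eq_of_eq_mul_left hj0 (by ring)
    have he : a ^ j = z := d.K_invol (pow_mem haK j) hord
    exact hne (d.fix_unique hc hβ hzβ hγ (he ▸ hfixpow haγ j))
  -- elements of `M` moving `β` to fixed points of `a` commute with `a`
  have hcommM : ∀ {δ : Pts M}, δ ≠ base M → a • δ = δ → ∃ y ∈ M, y • β = δ ∧ y * a = a * y := by
    intro δ hδ haδ
    obtain ⟨y, hy, hyδ⟩ := d.exists_M_move hc hβ hδ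
    refine ⟨y, hy, hyδ, ?_⟩
    have h1 : y⁻¹ * a * y ∈ K M z := by
      refine d.D_eq_K hβ hzβ ▸ mem_inf.2
        ⟨mul_mem (mul_mem (inv_mem (le_normalizer hy)) haD.1) (le_normalizer hy),
          mem_stabilizer_iff.2 ?_⟩
      rw [mul_smul, mul_smul, hyδ, haδ, inv_smul_eq_iff, hyδ]
    have h2 : y⁻¹ * a * y * a⁻¹ ∈ M := by
      rw [show y⁻¹ * a * y * a⁻¹ = y⁻¹ * (a * y * a⁻¹) by group]
      exact mul_mem (inv_mem hy) ((Subgroup.mem_normalizer_iff.1 haD.1 y).1 hy)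
    have h3 := d.eq_one_of_mem_K h2 (mul_mem h1 (inv_mem haK))
    calc y * a = y * ((y⁻¹ * a * y * a⁻¹) * a) := by rw [h3, one_mul]
      _ = a * y := by group
  obtain ⟨u, hu, huβ⟩ := d.exists_swap hβ
  obtain ⟨v, hv, hvγ⟩ := d.exists_swap hγ
  have hub := smul_base_of_swap hu huβ
  have hvb := smul_base_of_swap hv hvγ
  obtain ⟨hui, huu, -⟩ := inv_of_invol hu
  have hua := (d.D_spec hβ hu huβ).1 a haD
  have hva := (d.D_spec hγ hv hvγ).1 a⁻¹
    (inv_mem (mem_inf.2 ⟨haD.1, mem_stabilizer_iff.2 haγ⟩))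
  set c₁ := v * u with hc₁
  have hc₁a : c₁ * a = a * c₁ := by
    refine mul_inv_eq_iff_eq_mul.1 ?_
    rw [hc₁, show v * u * a * (v * u)⁻¹ = v * (u * a * u⁻¹) * v⁻¹ by group, hua, hva, inv_inv]
  have hfixc : ∀ {g : G}, g * a = a * g → ∀ {δ : Pts M}, a • δ = δ → a • g • δ = g • δ := by
    intro g hg δ hδ
    rw [← mul_smul, ← hg, mul_smul, hδ]
  -- send the base point to `β`
  have hδ1 : c₁ • base M ≠ base M := by
    rw [hc₁, mul_smul, huβ]
    exact fun h => hne (smul_left_cancel v (h.trans hvb.symm))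
  obtain ⟨y, hy, hyb, hya⟩ := hcommM hδ1 (hfixc hc₁a haα)
  set h₁ := y⁻¹ * c₁ with hh₁
  have hyia : y⁻¹ * a = a * y⁻¹ := ((show Commute y a from hya).inv_left).eq
  have hh₁a : h₁ * a = a * h₁ := by
    rw [hh₁, mul_assoc, hc₁a, ← mul_assoc, hyia, mul_assoc]
  have hh₁α : h₁ • base M = β := by rw [hh₁, mul_smul, ← hyb, inv_smul_smul]
  set ε := h₁ • β with hε
  have hεβ : ε ≠ β := fun h => hβ (smul_left_cancel h₁ (h.trans hh₁α.symm))
  have huε : u • ε ≠ base M := fun h => hεβ (smul_left_cancel u (h.trans hub.symm))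
  have haui : a * u = u * a⁻¹ := by
    rw [← hua, hui, show u * (u * a * u) = (u * u) * a * u by group, huu, one_mul]
  have hauε : a • u • ε = u • ε := by
    rw [← mul_smul, haui, mul_smul]
    congr 1
    rw [inv_smul_eq_iff]
    exact (hfixc hh₁a haβ).symm
  obtain ⟨y₁, hy₁, hy₁b, hy₁a⟩ := hcommM huε hauε
  set g₁ := u * y₁⁻¹ * u with hg₁
  have hy₁ia : y₁⁻¹ * a = a * y₁⁻¹ := ((show Commute y₁ a from hy₁a).inv_left).eq
  have hg₁a : g₁ * a = a * g₁ := by
    refine mul_inv_eq_iff_eq_mul.1 ?_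
    have h1 : y₁⁻¹ * a⁻¹ * y₁⁻¹⁻¹ = a⁻¹ :=
      mul_inv_eq_iff_eq_mul.2 ((show Commute y₁⁻¹ a from hy₁ia).inv_right).eq
    rw [hg₁, show u * y₁⁻¹ * u * a * (u * y₁⁻¹ * u)⁻¹ =
      u * (y₁⁻¹ * (u * a * u⁻¹) * y₁⁻¹⁻¹) * u⁻¹ by group, hua, h1]
    have := (d.D_spec hβ hu huβ).1 a⁻¹ (inv_mem haD)
    rw [this, inv_inv]
  set g := g₁ * h₁ with hg
  have hgα : g • base M = β := by
    rw [hg, mul_smul, hh₁α, hg₁, mul_smul, mul_smul, hub,
      smul_base (inv_mem (le_normalizer hy₁)), huβ]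
  have hgβ : g • β = base M := by
    rw [hg, mul_smul, ← hε, hg₁, mul_smul, mul_smul, ← hy₁b, inv_smul_smul, hub]
  have hga : g * a = a * g := by rw [hg, mul_assoc, hh₁a, ← mul_assoc, hg₁a, mul_assoc]
  have hugK : u * g ∈ D M β := mem_inf.2 ⟨mem_norm_of_smul (by rw [mul_smul, hgα, hub]),
    mem_stabilizer_iff.2 (by rw [mul_smul, hgβ, huβ])⟩
  have hua' : u * a = a * u := by
    have h1 := d.D_comm hβ hugK haD
    rw [mul_assoc u g a, hga, ← mul_assoc u a g, ← mul_assoc a u g] at h1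
    exact mul_right_cancel h1
  rw [hua', mul_inv_cancel_right] at hua
  obtain ⟨j, hj⟩ := hodd
  have h2 : a ^ 2 = 1 := by rw [pow_two]; exact mul_eq_one_iff_eq_inv.2 hua
  have h3 := pow_orderOf_eq_one a
  rw [hj, pow_succ, pow_mul, h2, one_pow, one_mul] at h3
  exact ha1 h3

theorem eq_one_of_three {g : G} {a b e : Pts M} (hab : a ≠ b) (hbe : b ≠ e) (hae : a ≠ e)
    (ha : g • a = a) (hb : g • b = b) (he : g • e = e) : g = 1 := by
  obtain ⟨β, hβ, hzβ⟩ := d.exists_pair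
  obtain ⟨h, hh1, hh2⟩ := (is_two_pretransitive_iff.1 (d.two_trans hc)) hab hβ.symm
  have e' : h * g * h⁻¹ = 1 := d.eq_one_of_three_base hc hβ hzβ (γ := h • e)
    (fun h' => hae (smul_left_cancel h (hh1.trans h'.symm)))
    (fun h' => hbe (smul_left_cancel h (hh2.trans h')))
    (by rw [← hh1, mul_smul, mul_smul, inv_smul_smul, ha])
    (by rw [← hh2, mul_smul, mul_smul, inv_smul_smul, hb])
    (by rw [mul_smul, mul_smul, inv_smul_smul, he])
  calc g = h⁻¹ * (h * g * h⁻¹) * h := by group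
    _ = 1 := by rw [e']; group

theorem faithful : FaithfulSMul G (Pts M) := by
  refine ⟨fun {g g'} h => ?_⟩
  obtain ⟨β, hβ, -⟩ := d.exists_pair
  obtain ⟨x, hx, hx1⟩ := (bot_or_exists_ne_one M).resolve_left d.ne_bot
  have hxβ : x • β ≠ base M := fun h' => hβ (by
    rwa [← eq_inv_smul_iff, smul_base (inv_mem (le_normalizer hx))] at h')
  have hxβ' : x • β ≠ β := fun h' => hx1 (d.eq_one_of_fix hβ hx h')
  refine (inv_mul_eq_one.1 (d.eq_one_of_three hc (g := g'⁻¹ * g) hβ.symm hxβ'.symm hxβ.symm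
    ?_ ?_ ?_)).symm <;> rw [mul_smul, h, inv_smul_smul]

theorem conclusion_A :
    ((∃ (F : Type) (_ : Field F) (_ : Fintype F) (p : ℕ) (_ : Fact p.Prime) (_ : CharP F p),
      Fintype.card F = Nat.card M ∧ Cfsg.IsElementaryAbelian p M ∧
        (Nonempty (G ≃* (GL (Fin 2) F ⧸ Subgroup.center (GL (Fin 2) F))) ∨
         (Fintype.card F % 4 = 1 ∧
           Nonempty (G ≃* Matrix.ProjectiveSpecialLinearGroup (Fin 2) F)))) ∨
    (∃ (n : ℕ) (E : Subgroup G), 1 ≤ n ∧ E.Normal ∧ Cfsg.IsElementaryAbelian 2 E ∧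
      Nat.card E = 2 ^ (2 * n) ∧ E ⊓ normalizer (M : Set G) = ⊥ ∧
      E ⊔ normalizer (M : Set G) = ⊤ ∧
      Nonempty (↥(normalizer (M : Set G)) ≃* DihedralGroup (2 ^ n + 1)))) := by
  classical
  obtain ⟨β, hβ, hzβ⟩ := d.exists_pair
  have hpair : CfsgLib.Perm.ZassG.pairStab G (base M) β = D M β := by
    show stabilizer G (base M) ⊓ stabilizer G β = _
    rw [stab_base]
  by_cases hR : ∃ R : Subgroup G, R.Normal ∧ IsPretransitive R (Pts M) ∧
      ∀ a : Pts M, stabilizer R a = ⊥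
  · -- a regular normal subgroup: `S₄`
    obtain ⟨R, hRn, hRt, hRs⟩ := hR
    right
    haveI := hRn
    have hcardR : Nat.card R = Nat.card M + 1 := by
      rw [← d.card_pts_A hc, ← index_stabilizer_of_transitive R (base M), hRs, index_bot]
    have hReq : ∀ r ∈ R, r • base M = base M → r = 1 := by
      intro r hr h
      have h1 : (⟨r, hr⟩ : R) ∈ stabilizer R (base M) := h
      rw [hRs, mem_bot] at h1
      exact congrArg Subtype.val h1
    obtain ⟨⟨r₀, hr₀⟩, hr₂⟩ := exists_prime_orderOf_dvd_card' 2 (G := R) (hp := ⟨Nat.prime_two⟩)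
      (by rw [hcardR]; exact (d.odd_card.add_one).two_dvd)
    rw [Subgroup.orderOf_mk] at hr₂
    have hr₀1 := (inv_of_invol hr₂).2.2
    have hsq : ∀ r ∈ R, r * r = 1 := by
      intro r hr
      by_cases hr1 : r = 1
      · rw [hr1, mul_one]
      obtain ⟨y, hy, hyb⟩ := d.exists_M_move hc (β := r₀ • base M) (γ := r • base M)
        (fun h => hr₀1 (hReq _ hr₀ h)) (fun h => hr1 (hReq _ hr h))
      have e : r⁻¹ * (y * r₀ * y⁻¹) = 1 := hReq _ (mul_mem (inv_mem hr) (hRn.conj_mem _ hr₀ y)) (by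
        rw [mul_smul, mul_smul, mul_smul, smul_base (inv_mem (le_normalizer hy)), hyb, inv_smul_smul])
      rw [inv_mul_eq_one.1 e, show y * r₀ * y⁻¹ * (y * r₀ * y⁻¹) = y * (r₀ * r₀) * y⁻¹ by group,
        (inv_of_invol hr₂).2.1]
      group
    have hinv : ∀ r ∈ R, r⁻¹ = r := fun r hr => inv_eq_of_mul_eq_one_right (hsq r hr)
    have hRc : ∀ r ∈ R, ∀ s ∈ R, r * s = s * r := fun r hr s hs => by
      have h := hinv _ (mul_mem hr hs)
      rw [mul_inv_rev, hinv r hr, hinv s hs] at h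
      exact h.symm
    -- `z` centralises at most two elements of `R`
    let f : R →* R :=
      { toFun := fun r => ⟨(r : G) * (z * r * z⁻¹), mul_mem r.2 (hRn.conj_mem _ r.2 z)⟩
        map_one' := Subtype.ext (by simp)
        map_mul' := fun r s => Subtype.ext (by
          show (r : G) * s * (z * (r * s) * z⁻¹) = r * (z * r * z⁻¹) * (s * (z * s * z⁻¹))
          calc (r : G) * s * (z * (r * s) * z⁻¹)
              = r * (s * (z * r * z⁻¹)) * (z * s * z⁻¹) := by group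
            _ = _ := by rw [hRc _ s.2 _ (hRn.conj_mem _ r.2 z)]; group) }
    have hfixle : ∀ S : Subgroup R, (∀ r ∈ S, (z * (r : G) * z⁻¹) = r) → Nat.card S ≤ 2 := by
      intro S hS
      let g : S → {γ : Pts M // z • γ = γ} := fun r => ⟨((r : R) : G) • base M, by
        rw [← mul_smul, show z * ((r : R) : G) = ((r : R) : G) * z from
          mul_inv_eq_iff_eq_mul.1 (hS _ r.2), mul_smul, smul_base d.mem_norm]⟩
      have hg : Function.Injective g := fun r s h => by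
        refine Subtype.ext (Subtype.ext (inv_mul_eq_one.1
          (hReq _ (mul_mem (inv_mem (r : R).2) (s : R).2) ?_)))
        rw [mul_smul, inv_smul_eq_iff]
        exact (congrArg Subtype.val h).symm
      refine (Nat.card_le_card_of_injective g hg).trans ?_
      calc Nat.card {γ : Pts M // z • γ = γ} ≤ Nat.card ({base M, β} : Set (Pts M)) :=
            Nat.card_mono (Set.toFinite _) fun γ hγ => by
              by_cases hb : γ = base M
              · exact Or.inl hb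
              · exact Or.inr (d.fix_unique hc hb hγ hβ hzβ)
        _ ≤ 2 := by
            rw [Nat.card_coe_set_eq]
            exact Set.ncard_insert_le _ _ |>.trans (by simp)
    have hker : Nat.card f.ker ≤ 2 := hfixle _ fun r hr => by
      have h1 : (r : G) * (z * r * z⁻¹) = 1 := congrArg Subtype.val (MonoidHom.mem_ker.1 hr)
      rw [← inv_eq_of_mul_eq_one_right h1, hinv _ r.2]
    have hran : Nat.card f.range ≤ 2 := hfixle _ fun r hr => by
      obtain ⟨s, rfl⟩ := MonoidHom.mem_range.1 hr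
      show z * ((s : G) * (z * s * z⁻¹)) * z⁻¹ = (s : G) * (z * s * z⁻¹)
      rw [show z * ((s : G) * (z * s * z⁻¹)) * z⁻¹ = (z * s * z⁻¹) * ((z * z) * s * (z * z)⁻¹) by group,
        d.z_sq, one_mul, inv_one, mul_one, hRc _ (hRn.conj_mem _ s.2 z) _ s.2]
    have hR4 : Nat.card R ≤ 4 := by
      rw [← f.ker.card_mul_index, index_ker]
      exact Nat.mul_le_mul hker hran
    have h3 := d.three_le
    have hm : Nat.card M = 3 := by omega
    have hk : k M = 2 := by
      have h2 : 2 ≤ k M := Nat.le_of_dvd Nat.card_pos d.two_dvd_k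
      obtain ⟨j, hj⟩ := d.two_dvd_k
      have := d.k_lt
      omega
    have hdisj : R ⊓ normalizer (M : Set G) = ⊥ := eq_bot_iff_forall _ |>.2 fun r hr =>
      hReq r hr.1 (smul_base hr.2)
    refine ⟨1, R, le_rfl, hRn, ⟨⟨⟨fun r s => Subtype.ext (hRc r r.2 s s.2)⟩⟩,
      fun r hr => by rw [pow_two]; exact hsq r hr⟩, by omega, hdisj, ?_, ?_⟩
    · refine eq_top_iff.2 fun g _ => ?_
      obtain ⟨⟨r, hr⟩, hrg⟩ := hRt.exists_smul_eq (base M) (g • base M)
      rw [show g = r * (r⁻¹ * g) by group]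
      refine mul_mem_sup hr (mem_norm_of_smul ?_)
      rw [mul_smul, inv_smul_eq_iff]
      exact hrg.symm
    · haveI : Fact (Nat.Prime 3) := ⟨Nat.prime_three⟩
      have := d.norm_dihedral hk (isCyclic_of_prime_card hm)
      rwa [hm] at this
  push Not at hR
  left
  have hZ : Cfsg.IsZassenhausGroup G (Pts M) := by
    refine ⟨d.faithful hc, d.two_trans hc, fun g a b e hab hbe hae => d.eq_one_of_three hc hab hbe hae,
      ⟨z, d.z_ne, base M, β, hβ.symm, smul_base d.mem_norm, hzβ⟩, fun R hR1 hR2 => ?_⟩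
    exact hR R hR1 hR2
  let F := M
  have hF : CfsgLib.Perm.ZassG.IsKernel (base M) M := by
    refine ⟨fun y hy => mem_stabilizer_iff.2 (smul_base (le_normalizer hy)),
      fun g hg y hy => (Subgroup.mem_normalizer_iff.1 (mem_norm_of_smul hg) y).1 hy, fun a b ha hb => ?_⟩
    obtain ⟨y, hy, hyb⟩ := d.exists_M_move hc ha hb
    refine ⟨⟨y, hy⟩, hyb, fun y' hy' => Subtype.ext (inv_mul_eq_one.1
      (d.eq_one_of_fix ha (mul_mem (inv_mem y'.2) hy) ?_))⟩
    rw [mul_smul, hyb, inv_smul_eq_iff]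
    exact hy'.symm
  have hcomm : ∀ a b : M, a * b = b * a := fun a b => Subtype.ext (d.comm a.2 b.2)
  have hcases := CfsgLib.Perm.ZassG.card_cases hZ hβ.symm hF hcomm
  rw [hpair, d.card_D hβ] at hcases
  obtain ⟨⟨hM⟩, p, f, hp, hf0, hexp, hpf⟩ := hF.elementary hZ hβ.symm
    (by rw [hpair, d.card_D hβ]; omega)
  haveI := Fact.mk hp
  have helem : Cfsg.IsElementaryAbelian p M := ⟨⟨hM⟩, hexp⟩
  have hchar : ∀ (F : Type) [Field F] [Fintype F], Fintype.card F = Nat.card M → CharP F p := by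
    intro F _ _ hF'
    obtain ⟨r, hr⟩ := CharP.exists F
    obtain ⟨j, hr', hj⟩ := FiniteField.card F r
    rw [hpf, hj] at hF'
    have hrp : r = p := (Nat.prime_dvd_prime_iff_eq hr' hp).1
      (hr'.dvd_of_dvd_pow (hF' ▸ dvd_pow_self r j.pos.ne'))
    exact hrp ▸ hr
  rcases hcases with h | h
  · obtain ⟨u, hu, huβ⟩ := d.exists_swap hβ
    obtain ⟨F, hFf, hFt, hcard, hiso⟩ := exists_pgl_of_inverted hZ hβ.symm
      (by rw [hpair, d.card_D hβ, d.card_pts_A hc, h]) huβ (smul_base_of_swap hu huβ)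
      (fun x hx => (d.D_spec hβ hu huβ).1 x (hpair ▸ hx))
    have hcF : Fintype.card F = Nat.card M := by
      rw [d.card_pts_A hc, Nat.card_eq_fintype_card] at hcard
      omega
    exact ⟨F, hFf, hFt, p, ⟨hp⟩, hchar F hcF, hcF, helem, Or.inl hiso⟩
  · obtain ⟨F, hFf, hFt, -, hcard, hiso⟩ := CfsgLib.Perm.ZassG.exists_psl hZ hβ.symm hF
      (by rw [hpair, d.card_D hβ, h])
    have hcF : Fintype.card F = Nat.card M := by rw [← Nat.card_eq_fintype_card, hcard]
    refine ⟨F, hFf, hFt, p, ⟨hp⟩, hchar F hcF, hcF, helem, Or.inr ⟨?_, hiso⟩⟩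
    obtain ⟨j, hj⟩ := d.two_dvd_k
    omega

end LTI

end CfsgLib.LargeTI
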