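import Mathlib
import Cfsg.Agent.Lib.LocalEven.LargeTI.Two

/-!
If `z` fixes more than two points: `C(z)` is elementary abelian of order `2c` and `|M| = tc + 1`
with `t ≤ 2`.
-/

set_option autoImplicit false
set_option linter.style.haveILetI false

namespace CfsgLib.LargeTI

open Subgroup CfsgLib.Base MulAction

universe u

variable {G : Type u} [Group G] [Finite G]

namespace LTI

variable {M : Subgroup G} {z : G} (d : LTI M z) (hc : 2 ≤ Nat.card (Fix' M z))
include d hc

theorem K_eq {a : G} (ha : a ∈ K M z) : a = 1 ∨ a = z := by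
  classical
  by_contra hne
  push Not at hne
  have h2 := d.card_K.trans (d.k_eq_two hc)
  have : ({1, z, a} : Finset G).card ≤ Nat.card (K M z) := by
    rw [← Nat.card_eq_finsetCard]
    refine Nat.card_le_card_of_injective
      (fun x : ({1, z, a} : Finset G) => (⟨x.1, ?_⟩ : K M z)) fun x y h => ?_
    · have hx := x.2
      simp only [Finset.mem_insert, Finset.mem_singleton] at hx
      rcases hx with h | h | h <;> rw [h]
      exacts [one_mem _, d.z_mem_K, ha]
    · exact Subtype.ext (congrArg Subtype.val h :)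
  rw [Finset.card_insert_of_notMem (by simp [d.z_ne.symm, hne.1.symm]),
    Finset.card_pair hne.2.symm] at this
  omega

theorem centralizer_M {x : G} (hx : x ∈ M) (hx1 : x ≠ 1) :
    centralizer ({x} : Set G) = M := by
  refine le_antisymm (fun g hg => ?_) fun y hy =>
    mem_centralizer_singleton_iff.2 (d.comm hy hx)
  rw [mem_centralizer_singleton_iff] at hg
  have hgN : g ∈ normalizer (M : Set G) := d.ti g fun hb => hx1 (by
    rw [← mem_bot, ← hb]
    exact ⟨hx, x, hx, mul_inv_eq_iff_eq_mul.2 hg⟩)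
  have h : (⟨g, hgN⟩ : ↥(normalizer (M : Set G))) ∈ MN M ⊔
      (K M z).subgroupOf (normalizer (M : Set G)) := by
    rw [← subgroupOf_sup Subgroup.le_normalizer inf_le_left, mem_subgroupOf, d.fac]
    exact hgN
  obtain ⟨y, hy, b, hb, hyb⟩ := mem_sup_of_normal_left.1 h
  have e : g = (y : G) * (b : G) := (congrArg Subtype.val hyb).symm
  rcases d.K_eq hc (mem_subgroupOf.1 hb) with hb1 | hb1
  · rw [e, hb1, mul_one]; exact mem_subgroupOf.1 hy
  · exfalso
    refine hx1 (d.not_commute d.ord hx ?_)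
    rw [e, hb1, mul_assoc] at hg
    rw [← mul_assoc x, d.comm hx (mem_subgroupOf.1 hy), mul_assoc] at hg
    exact mul_left_cancel hg

theorem sq_centralizer {h : G} (hh : h ∈ centralizer ({z} : Set G)) : h * h = 1 := by
  by_cases hN : h ∈ normalizer (M : Set G)
  · rcases d.K_eq hc (mem_inf.2 ⟨hN, hh⟩) with rfl | rfl
    · exact one_mul 1
    · exact d.z_sq
  have hβ : h • base M ≠ base M := fun e => hN (mem_norm_of_smul e)
  have hzβ : z • h • base M = h • base M := smul_fixed (smul_base d.mem_norm) hh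
  obtain ⟨u, hu, huβ⟩ := d.exists_swap hβ
  have huC := d.swap_comm hβ hzβ hu huβ
  obtain ⟨hui, huu, -⟩ := inv_of_invol hu
  rcases d.K_eq hc (a := u * h) (mem_inf.2 ⟨mem_norm_of_smul (by
    rw [mul_smul, smul_base_of_swap hu huβ]), mul_mem huC hh⟩) with e | e
  · have : h = u := by rw [← hui]; exact eq_inv_of_mul_eq_one_right e
    rw [this, huu]
  · have : h = u * z := by rw [← e, ← mul_assoc, huu, one_mul]
    rw [this, show u * z * (u * z) = u * (z * u) * z by group,
      ← mem_centralizer_singleton_iff.1 huC, show u * (u * z) * z = (u * u) * (z * z) by group,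
      huu, d.z_sq, mul_one]

theorem comm_centralizer {a b : G} (ha : a ∈ centralizer ({z} : Set G))
    (hb : b ∈ centralizer ({z} : Set G)) : a * b = b * a := by
  have h := inv_eq_of_mul_eq_one_right (d.sq_centralizer hc (mul_mem ha hb))
  rw [mul_inv_rev, inv_eq_of_mul_eq_one_right (d.sq_centralizer hc ha),
    inv_eq_of_mul_eq_one_right (d.sq_centralizer hc hb)] at h
  exact h.symm

omit hc in
theorem card_class : Nat.card {g : G // IsConj z g} * Nat.card ↥(centralizer ({z} : Set G)) =
    Nat.card G := by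
  rw [mul_comm, ← (centralizer ({z} : Set G)).card_mul_index]
  congr 1
  have h := index_stabilizer (ConjAct G) z
  rw [← Nat.card_coe_set_eq, ConjAct.orbit_eq_carrier_conjClasses] at h
  have e : (centralizer ({z} : Set G)).index = (stabilizer (ConjAct G) z).index := by
    rw [ConjAct.stabilizer_eq_centralizer]; rfl
  rw [e, h]
  exact Nat.card_congr (Equiv.subtypeEquivRight fun g => by
    rw [ConjClasses.mem_carrier_iff_mk_eq, ConjClasses.mk_eq_mk_iff_isConj, isConj_comm])

/-- The numerical facts. -/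
theorem numbers : ∃ e t : ℕ, 2 ≤ e ∧ 1 ≤ t ∧ t ≤ 2 ∧ Nat.card (Fix' M z) + 1 = 2 ^ e ∧
    Nat.card ↥(centralizer ({z} : Set G)) = 2 * 2 ^ e ∧ Nat.card M = 1 + t * 2 ^ e ∧
    Nat.card (Pts M) = 2 ^ e * (1 + t * (2 ^ e - 1)) ∧
    Nat.card G = Nat.card (Pts M) * Nat.card M * 2 ∧
    (t = 2 → ∀ g : G, orderOf g = 2 → IsConj z g) := by
  haveI : Fact (Nat.Prime 2) := ⟨Nat.prime_two⟩
  have hk := d.k_eq_two hc
  have hH := d.card_centralizer
  rw [hk] at hH
  have hH2 : IsPGroup 2 ↥(centralizer ({z} : Set G)) := fun h =>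
    ⟨1, Subtype.ext (by rw [pow_one, pow_two]; exact d.sq_centralizer hc h.2)⟩
  obtain ⟨j, hj⟩ := IsPGroup.iff_card.1 hH2
  set c' := Nat.card (Fix' M z) with hc'
  have hj1 : 1 ≤ j := by
    rcases j with _ | j
    · rw [pow_zero] at hj; omega
    · omega
  obtain ⟨e, rfl⟩ : ∃ e, j = e + 1 := ⟨j - 1, by omega⟩
  rw [pow_succ] at hj
  have hce : c' + 1 = 2 ^ e := by omega
  have he : 2 ≤ e := by
    by_contra hlt
    have : 2 ^ e ≤ 2 ^ 1 := Nat.pow_le_pow_right (by omega) (by omega)
    omega
  have hn := d.card_pts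
  rw [← hc'] at hn
  have hG := card_group (M := M)
  rw [hk] at hG
  have hcls := d.card_class
  rw [hH] at hcls
  have hi := d.card_invol
  rw [hk] at hi
  have hsub : Nat.card {g : G // IsConj z g} ≤ Nat.card {g : G // orderOf g = 2} :=
    Nat.card_le_card_of_injective (fun g => ⟨g.1, by
      obtain ⟨x, hx⟩ := isConj_iff.1 g.2
      rw [← hx, show x * z * x⁻¹ = MulAut.conj x z from rfl, MulEquiv.orderOf_eq, d.ord]⟩)
      fun a b h => Subtype.ext (congrArg Subtype.val h :)
  set m := Nat.card M with hm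
  set n := Nat.card (Pts M) with hn'
  set cls := Nat.card {g : G // IsConj z g} with hcls'
  have h1 : (c' + 1) * cls = n * m := by
    have : (c' + 1) * cls * 2 = n * m * 2 := by
      calc (c' + 1) * cls * 2 = cls * ((1 + c') * 2) := by ring
        _ = n * m * 2 := by rw [hcls, hG, mul_assoc]
    omega
  have hcop : (c' + 1).Coprime m := by
    rw [hce]; exact (Nat.coprime_two_left.2 d.odd_card).pow_left e
  obtain ⟨a, ha⟩ : c' + 1 ∣ n := hcop.dvd_of_dvd_mul_right (h1 ▸ dvd_mul_right _ _)
  have hcls2 : cls = a * m := by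
    rw [ha, mul_assoc] at h1
    exact Nat.eq_of_mul_eq_mul_left (by omega) h1
  have hle : a * m ≤ m + (n - 1) * 2 := by rw [← hcls2, ← hi]; exact hsub
  have hn1 : n - 1 = m * c' := by omega
  rw [hn1] at hle
  have hm3 := d.three_le
  rw [← hm] at hm3
  have ha1 : a ≤ 1 + 2 * c' := by
    refine Nat.le_of_mul_le_mul_right ?_ (by omega : 0 < m)
    calc a * m ≤ _ := hle
      _ = (1 + 2 * c') * m := by ring
  obtain ⟨t, ht⟩ : ∃ t, m = a + t := by
    refine ⟨m - a, (Nat.add_sub_cancel' ?_).symm⟩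
    by_contra hlt
    push Not at hlt
    have := Nat.mul_le_mul_left (c' + 1) hlt
    rw [← ha, hn] at this
    nlinarith
  have hmt : m = 1 + t * (c' + 1) := by
    have e1 : (c' + 1) * a + m = 1 + m * (c' + 1) := by
      rw [← ha, hn]; ring
    have e2 : m * (c' + 1) = (c' + 1) * a + t * (c' + 1) := by rw [ht]; ring
    omega
  have hat : a = 1 + t * c' := by
    rw [mul_add, mul_one] at hmt
    omega
  have ht2 : t ≤ 2 := by
    by_contra hlt
    have := Nat.mul_le_mul_right c' (show 3 ≤ t by omega)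
    omega
  have ht1 : 1 ≤ t := by
    by_contra hlt
    rw [show t = 0 by omega, zero_mul] at hmt
    omega
  refine ⟨e, t, he, ht1, ht2, hce, ?_, ?_, ?_, by rw [hG, mul_assoc], fun h g hg => ?_⟩
  · rw [hH, ← hce]; ring
  · rw [← hce]; exact hmt
  · rw [← hce, ha, hat, Nat.add_sub_cancel]
  · have heq : cls = Nat.card {g : G // orderOf g = 2} := by
      rw [hi, hcls2, hat, h, hn1]; ring
    obtain ⟨b, hb⟩ := ((Nat.bijective_iff_injective_and_card
      (fun g : {g : G // IsConj z g} => (⟨g.1, by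
        obtain ⟨x, hx⟩ := isConj_iff.1 g.2
        rw [← hx, show x * z * x⁻¹ = MulAut.conj x z from rfl, MulEquiv.orderOf_eq, d.ord]⟩ :
        {g : G // orderOf g = 2}))).2
      ⟨fun a b h => Subtype.ext (congrArg Subtype.val h :), heq⟩).2 ⟨g, hg⟩
    have : (b : G) = g := congrArg Subtype.val hb
    exact this ▸ b.2

end LTI

end CfsgLib.LargeTI
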