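import Mathlib
import Cfsg.Agent.Lib.LocalEven.LargeTI.CaseB
import Cfsg.Agent.Lib.SolvStruct.KegelWielandt.General
import Cfsg.Agent.Lib.Base.MinimalNormal
import Cfsg.Prelude.Def_Transfer

/-!
The case `|M| = c + 1`: the group is an elementary abelian group of order `c²` extended by a
dihedral group.
-/

set_option autoImplicit false
set_option linter.style.haveILetI false

namespace CfsgLib.LargeTI

open Subgroup CfsgLib.Base MulAction

universe u

theorem eq_of_dvd_pow_sub_one {e j : ℕ} (he : 1 ≤ e) (hj : 0 < j) (hle : j ≤ 2 * e)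
    (h : 2 ^ e + 1 ∣ 2 ^ j - 1) : j = 2 * e := by
  have hpos : 0 < 2 ^ j - 1 := by
    have : 2 ^ 1 ≤ 2 ^ j := Nat.pow_le_pow_right (by omega) hj
    omega
  have hlt : e < j := by
    by_contra hle'
    have h1 := Nat.le_of_dvd hpos h
    have : 2 ^ j ≤ 2 ^ e := Nat.pow_le_pow_right (by omega) (by omega)
    omega
  obtain ⟨i, rfl⟩ : ∃ i, j = e + i := ⟨j - e, by omega⟩
  by_contra hne
  have h2 : 2 ^ e + 1 ∣ 2 ^ i + 1 := by
    have h3 : 2 ^ e + 1 ∣ (2 ^ e + 1) * 2 ^ i := dvd_mul_right _ _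
    have e1 : (2 ^ e + 1) * 2 ^ i - (2 ^ (e + i) - 1) = 2 ^ i + 1 := by
      rw [add_mul, one_mul, ← pow_add]
      have : 0 < 2 ^ (e + i) := by positivity
      have : 0 < 2 ^ i := by positivity
      omega
    exact e1 ▸ Nat.dvd_sub h3 h
  have h4 := Nat.le_of_dvd (by positivity) h2
  have : 2 ^ i * 2 ≤ 2 ^ e := by
    rw [← pow_succ]; exact Nat.pow_le_pow_right (by omega) (by omega)
  have : 0 < 2 ^ i := by positivity
  omega

variable {G : Type u} [Group G] [Finite G]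

namespace LTI

variable {M : Subgroup G} {z : G} (d : LTI M z) (hc : 2 ≤ Nat.card (Fix' M z))
include d hc

theorem solvable_B1 {e : ℕ} (hM : Nat.card M = 2 ^ e + 1) (hP : Nat.card (Pts M) = 2 ^ e * 2 ^ e)
    (hG : Nat.card G = Nat.card (Pts M) * Nat.card M * 2) : Group.IsSolvable G := by
  haveI : Fact (Nat.Prime 2) := ⟨Nat.prime_two⟩
  have hG' : Nat.card G = 2 ^ (e + e + 1) * Nat.card M := by
    rw [hG, hP, pow_succ, pow_add]; ring
  obtain ⟨P, hPc⟩ := Sylow.exists_subgroup_card_pow_prime 2 (hG' ▸ dvd_mul_right _ _)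
  haveI : IsMulCommutative M := ⟨⟨fun a b => Subtype.ext (d.comm a.2 b.2)⟩⟩
  have hMnil : Group.IsNilpotent M := by
    letI : CommGroup M := { (inferInstance : Group M) with mul_comm := IsMulCommutative.is_comm.comm }
    infer_instance
  refine CfsgLib.SolvStruct.KW.isSolvable_of_nilpotent_mul _ rfl P M
    (IsPGroup.of_card hPc).isNilpotent hMnil ?_
  have hd : P ⊓ M = ⊥ := Subgroup.inf_eq_bot_of_coprime (by
    rw [hPc]; exact (Nat.coprime_two_left.2 d.odd_card).pow_left _)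
  let f : P × M → G := fun q => (q.1 : G) * (q.2 : G)
  have hf : Function.Injective f := by
    rintro ⟨a, b⟩ ⟨a', b'⟩ h
    have h' : (a : G) * b = (a' : G) * b' := h
    have h1 : (a' : G)⁻¹ * a = (b' : G) * (b : G)⁻¹ := by
      rw [eq_mul_inv_iff_mul_eq, mul_assoc, h', inv_mul_cancel_left]
    have h2 : (a' : G)⁻¹ * a ∈ P ⊓ M :=
      mem_inf.2 ⟨mul_mem (inv_mem a'.2) a.2, h1 ▸ mul_mem b'.2 (inv_mem b.2)⟩
    rw [hd, mem_bot] at h2
    rw [h2] at h1
    rw [Prod.mk.injEq]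
    exact ⟨Subtype.ext (inv_mul_eq_one.1 h2).symm, Subtype.ext (mul_inv_eq_one.1 h1.symm).symm⟩
  intro g
  obtain ⟨⟨a, b⟩, hab⟩ := ((Nat.bijective_iff_injective_and_card f).2
    ⟨hf, by rw [Nat.card_prod, hPc, hG']⟩).2 g
  exact ⟨a, a.2, b, b.2, hab.symm⟩

theorem inf_norm_bot {W : Subgroup G} [W.Normal] [IsMulCommutative W] :
    W ⊓ normalizer (M : Set G) = ⊥ := by
  have hWM : ∀ x ∈ W, x ∈ M → x = 1 := by
    intro x hxW hxM
    by_contra hx1
    refine d.not_normal (normalizer_eq_top_iff.1 (eq_top_iff.2 fun g _ => ?_))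
    have hWle : W ≤ M := fun w hw => by
      rw [← d.centralizer_M hc hxM hx1, mem_centralizer_singleton_iff]
      exact congrArg Subtype.val (IsMulCommutative.is_comm.comm (⟨w, hw⟩ : W) ⟨x, hxW⟩)
    refine d.ti g fun hb => hx1 ?_
    rw [← mem_bot, ← hb]
    refine ⟨hxM, g⁻¹ * x * g, hWle ?_, ?_⟩
    · simpa using Normal.conj_mem inferInstance x hxW g⁻¹
    · show g * (g⁻¹ * x * g) * g⁻¹ = x
      group
  rw [eq_bot_iff_forall]
  intro w hw
  have hwN := (mem_inf.1 hw).2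
  obtain ⟨x, hx, hx1⟩ := (bot_or_exists_ne_one M).resolve_left d.ne_bot
  have hwx : w * x * w⁻¹ = x := by
    have h1 : w * x * w⁻¹ * x⁻¹ = 1 := hWM _
      (by rw [mul_assoc w, mul_assoc w]
          exact mul_mem hw.1 (Normal.conj_mem inferInstance _ (inv_mem hw.1) x))
      (mul_mem ((Subgroup.mem_normalizer_iff.1 hwN x).1 hx) (inv_mem hx))
    exact mul_inv_eq_one.1 h1
  refine hWM w hw.1 ?_
  rw [← d.centralizer_M hc hx hx1, mem_centralizer_singleton_iff]
  exact mul_inv_eq_iff_eq_mul.1 hwx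

theorem conclusion_B1 {e : ℕ} (he : 2 ≤ e) (hM : Nat.card M = 2 ^ e + 1)
    (hP : Nat.card (Pts M) = 2 ^ e * 2 ^ e)
    (hG : Nat.card G = Nat.card (Pts M) * Nat.card M * 2) :
    ∃ (n : ℕ) (E : Subgroup G), 1 ≤ n ∧ E.Normal ∧ Cfsg.IsElementaryAbelian 2 E ∧
      Nat.card E = 2 ^ (2 * n) ∧ E ⊓ normalizer (M : Set G) = ⊥ ∧
      E ⊔ normalizer (M : Set G) = ⊤ ∧
      Nonempty (↥(normalizer (M : Set G)) ≃* DihedralGroup (2 ^ n + 1)) := by
  haveI := d.solvable_B1 hc hM hP hG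
  haveI : Nontrivial G := ⟨z, 1, d.z_ne⟩
  haveI : Fact (Nat.Prime 2) := ⟨Nat.prime_two⟩
  obtain ⟨W, hW⟩ := exists_isMinimalNormal (G := G)
  haveI := hW.normal
  haveI : IsMulCommutative W := hW.isMulCommutative inferInstance
  have hN : Nat.card ↥(normalizer (M : Set G)) = Nat.card M * 2 := by
    rw [card_eq_card_quotient_mul_card_subgroup (MN M), mul_comm,
      Nat.card_congr (subgroupOfEquivOfLe (Subgroup.le_normalizer (H := M))).toEquiv]
    show _ * k M = _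
    rw [d.k_eq_two hc]
  -- a nontrivial elementary abelian normal subgroup
  obtain ⟨j, hjle, hWc⟩ : ∃ j, j ≤ e + e ∧ Nat.card W = 2 ^ j := by
    refine (Nat.dvd_prime_pow Nat.prime_two).1 ?_
    have h2 : Nat.card W ∣ (normalizer (M : Set G)).index := by
      have h := card_dvd_of_le (le_top : W ⊔ normalizer (M : Set G) ≤ ⊤)
      rw [card_top] at h
      have e' : Nat.card ↥(W ⊔ normalizer (M : Set G) : Subgroup G) =
          Nat.card W * Nat.card ↥(normalizer (M : Set G)) := by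
        refine (Nat.card_congr (Equiv.ofBijective
          (fun q : W × ↥(normalizer (M : Set G)) => (⟨(q.1 : G) * q.2,
            mul_mem (mem_sup_left q.1.2) (mem_sup_right q.2.2)⟩ :
              ↥(W ⊔ normalizer (M : Set G) : Subgroup G))) ⟨?_, ?_⟩)).symm.trans
            (by rw [Nat.card_prod])
        · rintro ⟨a, b⟩ ⟨a', b'⟩ h
          have h' : (a : G) * b = (a' : G) * b' := congrArg Subtype.val h
          have h1 : (a' : G)⁻¹ * a = (b' : G) * (b : G)⁻¹ := by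
            rw [eq_mul_inv_iff_mul_eq, mul_assoc, h', inv_mul_cancel_left]
          have h2 : (a' : G)⁻¹ * a ∈ W ⊓ normalizer (M : Set G) :=
            mem_inf.2 ⟨mul_mem (inv_mem a'.2) a.2, h1 ▸ mul_mem b'.2 (inv_mem b.2)⟩
          rw [d.inf_norm_bot hc, mem_bot] at h2
          rw [h2] at h1
          rw [Prod.mk.injEq]
          exact ⟨Subtype.ext (inv_mul_eq_one.1 h2).symm,
            Subtype.ext (mul_inv_eq_one.1 h1.symm).symm⟩
        · rintro ⟨g, hg⟩
          obtain ⟨a, ha, b, hb, hab⟩ := mem_sup_of_normal_left.1 hg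
          exact ⟨⟨⟨a, ha⟩, ⟨b, hb⟩⟩, Subtype.ext hab⟩
      rw [e', ← (normalizer (M : Set G)).card_mul_index, mul_comm] at h
      exact Nat.dvd_of_mul_dvd_mul_left Nat.card_pos h
    rwa [index_eq_card, hP, ← pow_add] at h2
  let E : Subgroup G :=
    { carrier := {g | g ∈ W ∧ g * g = 1}
      one_mem' := ⟨one_mem W, one_mul 1⟩
      mul_mem' := fun {a b} ha hb => ⟨mul_mem ha.1 hb.1, by
        have hc' : b * a = a * b :=
          congrArg Subtype.val (IsMulCommutative.is_comm.comm (⟨b, hb.1⟩ : W) ⟨a, ha.1⟩)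
        rw [show a * b * (a * b) = a * (b * a) * b by group, hc',
          show a * (a * b) * b = (a * a) * (b * b) by group, ha.2, hb.2, one_mul]⟩
      inv_mem' := fun {a} ha => ⟨inv_mem ha.1, by rw [← mul_inv_rev, ha.2, inv_one]⟩ }
  have hEW : E ≤ W := fun g hg => hg.1
  have hEn : E.Normal := ⟨fun g hg x => ⟨Normal.conj_mem inferInstance g hg.1 x, by
    rw [show x * g * x⁻¹ * (x * g * x⁻¹) = x * (g * g) * x⁻¹ by group, hg.2]; group⟩⟩
  have hE1 : E ≠ ⊥ := by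
    rcases Nat.eq_zero_or_pos j with rfl | hj
    · exact absurd (eq_bot_of_card_eq W (by rw [hWc, pow_zero])) hW.ne_bot
    obtain ⟨⟨w, hw⟩, hw2⟩ := exists_prime_orderOf_dvd_card' 2 (G := W)
      (by rw [hWc]; exact dvd_pow_self 2 hj.ne')
    rw [Subgroup.orderOf_mk] at hw2
    intro h
    exact (inv_of_invol hw2).2.2 (mem_bot.1 (h ▸ (⟨hw, (inv_of_invol hw2).2.1⟩ : w ∈ E)))
  haveI hEc : IsMulCommutative E := ⟨⟨fun a b => Subtype.ext
    (congrArg Subtype.val (IsMulCommutative.is_comm.comm (⟨a, a.2.1⟩ : W) ⟨b, b.2.1⟩) :)⟩⟩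
  haveI := hEn
  have hdisj := d.inf_norm_bot hc (W := E)
  have hfpf : IsFPF M E := by
    refine ⟨by rw [normalizer_eq_top_iff.2 hEn]; exact le_top, fun a ha ha1 => ?_⟩
    rw [d.centralizer_M hc ha ha1, eq_bot_iff_forall]
    intro x hx
    rw [← mem_bot, ← hdisj]
    exact mem_inf.2 ⟨hx.1, le_normalizer hx.2⟩
  obtain ⟨i, hile, hEcard⟩ := (Nat.dvd_prime_pow Nat.prime_two).1 (hWc ▸ card_dvd_of_le hEW)
  have hi : i = 2 * e := by
    refine eq_of_dvd_pow_sub_one (by omega) ?_ (by omega)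
      (by rw [← hEcard, ← hM]; exact hfpf.card_dvd)
    rcases Nat.eq_zero_or_pos i with rfl | h
    · exact absurd (eq_bot_of_card_eq E (by rw [hEcard, pow_zero])) hE1
    · exact h
  haveI : IsMulCommutative M := ⟨⟨fun a b => Subtype.ext (d.comm a.2 b.2)⟩⟩
  refine ⟨e, E, by omega, hEn, ⟨hEc, fun a ha => by rw [pow_two]; exact ha.2⟩, hi ▸ hEcard,
    hdisj, ?_, hM ▸ d.norm_dihedral (d.k_eq_two hc) (hfpf.isCyclic_of_comm hE1)⟩
  refine eq_top_of_card_eq _ ?_
  rw [hG, hP, ← pow_add, mul_assoc, ← hN]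
  refine (Nat.card_congr (Equiv.ofBijective
    (fun q : E × ↥(normalizer (M : Set G)) => (⟨(q.1 : G) * q.2,
      mul_mem (mem_sup_left q.1.2) (mem_sup_right q.2.2)⟩ :
        ↥(E ⊔ normalizer (M : Set G) : Subgroup G))) ⟨?_, ?_⟩)).symm.trans
      (by rw [Nat.card_prod, hEcard, hi, two_mul])
  · rintro ⟨a, b⟩ ⟨a', b'⟩ h
    have h' : (a : G) * b = (a' : G) * b' := congrArg Subtype.val h
    have h1 : (a' : G)⁻¹ * a = (b' : G) * (b : G)⁻¹ := by
      rw [eq_mul_inv_iff_mul_eq, mul_assoc, h', inv_mul_cancel_left]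
    have h2 : (a' : G)⁻¹ * a ∈ E ⊓ normalizer (M : Set G) :=
      mem_inf.2 ⟨mul_mem (inv_mem a'.2) a.2, h1 ▸ mul_mem b'.2 (inv_mem b.2)⟩
    rw [hdisj, mem_bot] at h2
    rw [h2] at h1
    rw [Prod.mk.injEq]
    exact ⟨Subtype.ext (inv_mul_eq_one.1 h2).symm, Subtype.ext (mul_inv_eq_one.1 h1.symm).symm⟩
  · rintro ⟨g, hg⟩
    obtain ⟨a, ha, b, hb, hab⟩ := mem_sup_of_normal_left.1 hg
    exact ⟨⟨⟨a, ha⟩, ⟨b, hb⟩⟩, Subtype.ext hab⟩

end LTI

end CfsgLib.LargeTI
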