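import Mathlib
import Cfsg.Agent.Lib.LocalEven.LargeTI.CaseB
import Cfsg.Agent.Lib.Perm.ZassG.SharpPGLEven
import Cfsg.Agent.Lib.Perm.SLTwoPGLEven
import Cfsg.Agent.Lib.Classical.SL2Sylow
import Cfsg.Agent.Lib.Classical.P1

/-!
The case `|M| = 2c + 1`: the group is `PSL(2, 2c)`.
-/

set_option autoImplicit false
set_option linter.style.haveILetI false

namespace CfsgLib.LargeTI

open Subgroup CfsgLib.Base MulAction

universe u

variable {G : Type u} [Group G] [Finite G]

/-- An abelian subgroup of odd order `|F| + 1` of `SL(2, F)` is cyclic when `|F|` is even. -/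
theorem isCyclic_of_sl {F : Type} [Field F] [Fintype F] [CharP F 2] (M : Subgroup G)
    [IsMulCommutative M] (hM : Odd (Nat.card M))
    (φ : G →* Matrix.SpecialLinearGroup (Fin 2) F) (hφ : Function.Injective φ) : IsCyclic M := by
  haveI : Fact (Nat.Prime 2) := ⟨Nat.prime_two⟩
  have hz : IsZGroup M := ⟨fun r hr P => by
    haveI := Fact.mk hr
    by_cases hdvd : r ∣ Nat.card M
    · have hr2 : r ≠ 2 := fun h => not_two_dvd_of_odd hM (h ▸ hdvd)
      let ψ : M →* Matrix.SpecialLinearGroup (Fin 2) F := φ.comp M.subtype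
      have hψ : Function.Injective ψ := hφ.comp M.subtype_injective
      obtain ⟨R, hR⟩ := (P.2.map ψ).exists_le_sylow
      haveI := CfsgLib.Classical.sylow_odd_SL2_isCyclic 2 hr2 hr2 R
      haveI : IsCyclic ((P : Subgroup M).map ψ) :=
        isCyclic_of_injective (inclusion hR) (inclusion_injective hR)
      exact isCyclic_of_surjective
        ((P : Subgroup M).equivMapOfInjective ψ hψ).symm.toMonoidHom
        ((P : Subgroup M).equivMapOfInjective ψ hψ).symm.surjective
    · obtain ⟨j, hj⟩ := IsPGroup.iff_card.1 P.2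
      rcases j with _ | j
      · rw [pow_zero] at hj
        haveI := (Nat.card_eq_one_iff_unique.1 hj).1
        exact isCyclic_of_subsingleton
      · exact absurd ((hj ▸ dvd_pow_self r j.succ_ne_zero).trans
          (P : Subgroup M).card_subgroup_dvd_card) hdvd⟩
  letI : CommGroup M := { (inferInstance : Group M) with mul_comm := IsMulCommutative.is_comm.comm }
  exact IsCyclic.iff_exponent_eq_card.2 (IsZGroup.exponent_eq_card M)

namespace LTI

variable {M : Subgroup G} {z : G} (d : LTI M z) (hc : 2 ≤ Nat.card (Fix' M z))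
include d hc

theorem conclusion_B2 {e : ℕ} (he : 2 ≤ e)
    (hH : Nat.card ↥(centralizer ({z} : Set G)) = 2 * 2 ^ e) (hM : Nat.card M = 1 + 2 * 2 ^ e)
    (hP : Nat.card (Pts M) = 2 ^ e * (1 + 2 * (2 ^ e - 1)))
    (hG : Nat.card G = Nat.card (Pts M) * Nat.card M * 2)
    (hconj : ∀ g : G, orderOf g = 2 → IsConj z g) :
    ∃ (F : Type) (_ : Field F) (_ : Fintype F) (n : ℕ), 1 < n ∧ Fintype.card F = 2 ^ n ∧
      IsCyclic ↥M ∧ Nat.card M = 2 ^ n + 1 ∧
      Nonempty (G ≃* Matrix.ProjectiveSpecialLinearGroup (Fin 2) F) := by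
  classical
  set C := centralizer ({z} : Set G) with hCdef
  have hzC : z ∈ C := mem_centralizer_singleton_iff.2 rfl
  have hq : Nat.card C = 2 ^ (e + 1) := by rw [hH, pow_succ, mul_comm]
  have hq4 : 4 ≤ 2 ^ e := by
    calc 4 = 2 ^ 2 := rfl
      _ ≤ 2 ^ e := Nat.pow_le_pow_right (by omega) he
  -- centralisers of involutions
  have hCeq : ∀ h ∈ C, h ≠ 1 → centralizer ({h} : Set G) = C := by
    intro h hh h1
    obtain ⟨g, hg⟩ := isConj_iff.1 (hconj h (orderOf_eq_prime
      (by rw [pow_two]; exact d.sq_centralizer hc hh) h1))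
    refine (eq_of_le_of_card_ge
      (fun x hx => mem_centralizer_singleton_iff.2 (d.comm_centralizer hc hx hh)) ?_).symm
    refine Nat.card_le_card_of_injective (fun x : centralizer ({h} : Set G) =>
      (⟨g⁻¹ * (x : G) * g, ?_⟩ : C)) fun x y hxy => ?_
    · refine mem_centralizer_singleton_iff.2 ?_
      have e' := mem_centralizer_singleton_iff.1 x.2
      generalize (x : G) = y at e' ⊢
      rw [← hg] at e'
      calc g⁻¹ * y * g * z = g⁻¹ * (y * (g * z * g⁻¹)) * g := by group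
        _ = g⁻¹ * (g * z * g⁻¹ * y) * g := by rw [e']
        _ = z * (g⁻¹ * y * g) := by group
    · exact Subtype.ext (mul_left_cancel (mul_right_cancel (congrArg Subtype.val hxy :)))
  set B := normalizer (C : Set G) with hBdef
  have hCB : C ≤ B := le_normalizer
  -- conjugating involutions of `C` into `C` happens in `B`
  have hfus : ∀ (g h : G), h ∈ C → h ≠ 1 → g * h * g⁻¹ ∈ C → g ∈ B := by
    intro g h hh h1 hgh
    have hgh1 : g * h * g⁻¹ ≠ 1 := fun e' => h1 (by rwa [mul_inv_eq_one, mul_eq_left] at e')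
    rw [hBdef, Subgroup.mem_normalizer_iff]
    intro x
    conv_lhs => rw [← hCeq h hh h1]
    conv_rhs => rw [← hCeq _ hgh hgh1]
    rw [mem_centralizer_singleton_iff, mem_centralizer_singleton_iff]
    constructor
    · intro e'
      calc g * x * g⁻¹ * (g * h * g⁻¹) = g * (x * h) * g⁻¹ := by group
        _ = g * (h * x) * g⁻¹ := by rw [e']
        _ = _ := by group
    · intro e'
      calc x * h = g⁻¹ * (g * x * g⁻¹ * (g * h * g⁻¹)) * g := by group
        _ = g⁻¹ * (g * h * g⁻¹ * (g * x * g⁻¹)) * g := by rw [e']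
        _ = _ := by group
  -- the order of `B`
  have hB : Nat.card B = (Nat.card C - 1) * Nat.card C := by
    letI : MulAction B {h : G // h ∈ C ∧ h ≠ 1} :=
      { smul := fun b h => ⟨(b : G) * h.1 * (b : G)⁻¹,
          (Subgroup.mem_normalizer_iff.1 b.2 h.1).1 h.2.1,
          fun e' => h.2.2 (by rwa [mul_inv_eq_one, mul_eq_left] at e')⟩
        one_smul := fun h => Subtype.ext (by
          show ((1 : B) : G) * h.1 * ((1 : B) : G)⁻¹ = h.1; simp)
        mul_smul := fun a b h => Subtype.ext (by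
          show ((a * b : B) : G) * h.1 * ((a * b : B) : G)⁻¹ =
            (a : G) * ((b : G) * h.1 * (b : G)⁻¹) * (a : G)⁻¹
          rw [coe_mul]; group) }
    rw [← Nat.card_congr (orbitProdStabilizerEquivGroup B
      (⟨z, hzC, d.z_ne⟩ : {h : G // h ∈ C ∧ h ≠ 1})), Nat.card_prod]
    congr 1
    · have horb : orbit B (⟨z, hzC, d.z_ne⟩ : {h : G // h ∈ C ∧ h ≠ 1}) = Set.univ := by
        refine Set.eq_univ_of_forall fun h => ?_
        obtain ⟨g, hg⟩ := isConj_iff.1 (hconj h.1 (orderOf_eq_prime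
          (by rw [pow_two]; exact d.sq_centralizer hc h.2.1) h.2.2))
        exact ⟨⟨g, hfus g z hzC d.z_ne (hg ▸ h.2.1)⟩, Subtype.ext hg⟩
      rw [horb, Nat.card_congr (Equiv.Set.univ _)]
      haveI := Fintype.ofFinite C
      have e0 : {h : G // h ∈ C ∧ h ≠ 1} ≃ {h : C // ¬ h = 1} :=
        { toFun := fun t => ⟨⟨t.1, t.2.1⟩, fun h => t.2.2 (congrArg Subtype.val h)⟩
          invFun := fun t => ⟨t.1.1, t.1.2, fun h => t.2 (Subtype.ext h)⟩
          left_inv := fun t => rfl
          right_inv := fun t => rfl }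
      rw [Nat.card_congr e0, Nat.card_eq_fintype_card, Fintype.card_subtype_compl,
        Fintype.card_subtype_eq, Nat.card_eq_fintype_card]
    · exact Nat.card_congr
        { toFun := fun b => ⟨b.1.1, mem_centralizer_singleton_iff.2
            (mul_inv_eq_iff_eq_mul.1 (congrArg Subtype.val b.2 :))⟩
          invFun := fun b => ⟨⟨b.1, hCB b.2⟩, Subtype.ext
            (mul_inv_eq_iff_eq_mul.2 (mem_centralizer_singleton_iff.1 b.2))⟩
          left_inv := fun b => rfl
          right_inv := fun b => rfl }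
  -- involutions of `B` lie in `C`
  have hinvB : ∀ t ∈ B, t * t = 1 → t ∈ C := by
    intro t ht ht2
    by_contra htC
    haveI : (C.subgroupOf B).Normal := Subgroup.normal_in_normalizer
    have hcardq : Nat.card (B ⧸ C.subgroupOf B) = Nat.card C - 1 := by
      have h := card_eq_card_quotient_mul_card_subgroup (C.subgroupOf B)
      rw [hB, Nat.card_congr (subgroupOfEquivOfLe hCB).toEquiv] at h
      exact (Nat.eq_of_mul_eq_mul_right Nat.card_pos h).symm
    have ho : orderOf (QuotientGroup.mk' (C.subgroupOf B) ⟨t, ht⟩) = 2 := by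
      refine orderOf_eq_prime ?_ fun h => htC (mem_subgroupOf.1 ((QuotientGroup.eq_one_iff _).1 h))
      rw [pow_two, ← map_mul, show (⟨t, ht⟩ : B) * ⟨t, ht⟩ = 1 from Subtype.ext ht2, map_one]
    have h2 : 2 ∣ Nat.card C - 1 := by rw [← hcardq, ← ho]; exact orderOf_dvd_natCard _
    rw [hq, pow_succ] at h2
    omega
  -- the action on the cosets of `B`
  let Ω := G ⧸ B
  let a₀ : Ω := ((1 : G) : G ⧸ B)
  have hstab : stabilizer G a₀ = B := stabilizer_quotient _
  have hΩ : Nat.card Ω = Nat.card C + 1 := by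
    show Nat.card (G ⧸ B) = _
    have h := card_eq_card_quotient_mul_card_subgroup B
    rw [hB, hG, hP, hM, hq, pow_succ] at h
    rw [hq, pow_succ]
    set c := 2 ^ e
    refine (Nat.eq_of_mul_eq_mul_right (m := (c * 2 - 1) * (c * 2)) ?_ ?_)
    · exact Nat.mul_pos (by omega) (by omega)
    · rw [← h, show 1 + 2 * (c - 1) = c * 2 - 1 by omega]
      ring
  have hmem : ∀ {g : G}, g • a₀ = a₀ → g ∈ B := fun h => hstab ▸ mem_stabilizer_iff.2 h
  have hfixC : ∀ h ∈ C, h • a₀ = a₀ := fun h hh => mem_stabilizer_iff.1 (hstab.symm ▸ hCB hh)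
  have hfixB : ∀ h ∈ B, h • a₀ = a₀ := fun h hh => mem_stabilizer_iff.1 (hstab.symm ▸ hh)
  have hfree : ∀ h ∈ C, ∀ w : Ω, w ≠ a₀ → h • w = w → h = 1 := by
    intro h hh w hw hhw
    induction w using QuotientGroup.induction_on with | _ g => ?_
    by_contra h1
    have hg : g ∉ B := fun hgB => hw (by
      show ((g : G) : G ⧸ B) = ((1 : G) : G ⧸ B)
      rw [QuotientGroup.eq]; simpa using inv_mem hgB)
    have hgB : g⁻¹ * h * g ∈ B := hmem (by
      rw [mul_smul, mul_smul, inv_smul_eq_iff]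
      show h • g • ((1 : G) : G ⧸ B) = g • ((1 : G) : G ⧸ B)
      rw [show g • ((1 : G) : G ⧸ B) = ((g : G) : G ⧸ B) by simp]
      exact hhw)
    have hgC : g⁻¹ * h * g ∈ C := hinvB _ hgB (by
      rw [show g⁻¹ * h * g * (g⁻¹ * h * g) = g⁻¹ * (h * h) * g by group, d.sq_centralizer hc hh]
      group)
    refine hg (inv_mem_iff.1 (hfus g⁻¹ h hh h1 ?_))
    rwa [inv_inv]
  have hreg : ∀ y w : Ω, y ≠ a₀ → w ≠ a₀ → ∃! h : C, (h : G) • y = w := by
    intro y w hy hw
    let f : C → {v : Ω // v ≠ a₀} := fun h => ⟨(h : G) • y, fun e' => hy (by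
      rwa [← eq_inv_smul_iff, hfixC _ (inv_mem h.2)] at e')⟩
    have hf : Function.Injective f := by
      intro a b hab
      have h' : (a : G) • y = (b : G) • y := congrArg Subtype.val hab
      refine Subtype.ext (inv_mul_eq_one.1
        (hfree _ (mul_mem (inv_mem b.2) a.2) y hy ?_)).symm
      rw [mul_smul, h', inv_smul_smul]
    have hb : Function.Bijective f := (Nat.bijective_iff_injective_and_card f).2 ⟨hf, by
      haveI := Fintype.ofFinite Ω
      rw [Nat.card_eq_fintype_card (α := {v : Ω // v ≠ a₀}), Fintype.card_subtype_compl,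
        Fintype.card_subtype_eq, ← Nat.card_eq_fintype_card (α := Ω), hΩ]
      omega⟩
    obtain ⟨h, hh, hu⟩ := hb.existsUnique ⟨w, hw⟩
    exact ⟨h, congrArg Subtype.val hh, fun h' hh' => hu h' (Subtype.ext hh')⟩
  obtain ⟨b₀, hb₀⟩ : ∃ b₀ : Ω, b₀ ≠ a₀ := by
    haveI := Fintype.ofFinite Ω
    exact Fintype.exists_ne_of_one_lt_card (by
      rw [← Nat.card_eq_fintype_card (α := Ω), hΩ, hq, pow_succ]; omega) a₀
  have key : ∀ a b : Ω, a ≠ b → ∃ g : G, g • a₀ = a ∧ g • b₀ = b := by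
    intro a b hab
    obtain ⟨g, hg⟩ := exists_smul_eq G a₀ a
    have hb : g⁻¹ • b ≠ a₀ := fun h => hab (by rw [← hg, ← h, smul_inv_smul])
    obtain ⟨⟨y, hy⟩, hyb, -⟩ := hreg b₀ _ hb₀ hb
    exact ⟨g * y, by rw [mul_smul, hfixC y hy, hg], by rw [mul_smul, hyb, smul_inv_smul]⟩
  have h2t : IsMultiplyPretransitive G Ω 2 := by
    rw [is_two_pretransitive_iff]
    intro a b a' b' hab hab'
    obtain ⟨g, hg1, hg2⟩ := key a b hab
    obtain ⟨g', hg1', hg2'⟩ := key a' b' hab'
    exact ⟨g' * g⁻¹, by rw [mul_smul, ← hg1, inv_smul_smul, hg1'],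
      by rw [mul_smul, ← hg2, inv_smul_smul, hg2']⟩
  have hthree₀ : ∀ (g : G) (w : Ω), w ≠ a₀ → w ≠ b₀ → g • a₀ = a₀ → g • b₀ = b₀ → g • w = w →
      g = 1 := by
    intro g w hw hwb hga hgb hgw
    obtain ⟨⟨h, hh⟩, hhw, hu⟩ := hreg b₀ w hb₀ hw
    have hgh : g * h * g⁻¹ ∈ C := (Subgroup.mem_normalizer_iff.1 (hmem hga) h).1 hh
    have e' : g * h * g⁻¹ = h := congrArg Subtype.val (hu ⟨_, hgh⟩ (by
      show (g * h * g⁻¹) • b₀ = w
      rw [mul_smul, mul_smul, inv_smul_eq_iff.2 hgb.symm, hhw, hgw]))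
    have h1 : h ≠ 1 := fun e'' => hwb (by
      rw [← hhw]; show h • b₀ = b₀; rw [e'', one_smul])
    have hgC : g ∈ C := by
      rw [← hCeq h hh h1, mem_centralizer_singleton_iff]
      exact mul_inv_eq_iff_eq_mul.1 e'
    exact hfree g hgC b₀ hb₀ hgb
  have hthree : ∀ g : G, ∀ a b w : Ω, a ≠ b → b ≠ w → a ≠ w → g • a = a → g • b = b → g • w = w →
      g = 1 := by
    intro g a b w hab hbw haw hga hgb hgw
    obtain ⟨x, hx1, hx2⟩ := key a b hab
    have h := hthree₀ (x⁻¹ * g * x) (x⁻¹ • w) (fun e' => haw (by rw [← hx1, ← e', smul_inv_smul]))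
      (fun e' => hbw (by rw [← hx2, ← e', smul_inv_smul]))
      (by rw [mul_smul, mul_smul, hx1, hga, inv_smul_eq_iff, hx1])
      (by rw [mul_smul, mul_smul, hx2, hgb, inv_smul_eq_iff, hx2])
      (by rw [mul_smul, mul_smul, smul_inv_smul, hgw])
    calc g = x * (x⁻¹ * g * x) * x⁻¹ := by group
      _ = 1 := by rw [h]; group
  obtain ⟨z₂, hz₂C, hz₂1, hz₂z⟩ : ∃ h ∈ C, h ≠ 1 ∧ h ≠ z := by
    by_contra hno
    push Not at hno
    have : Nat.card C ≤ 2 := by
      refine le_trans (Nat.card_mono (t := ({1, z} : Set G)) (Set.toFinite _) fun a ha => ?_) ?_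
      · by_cases h1 : a = 1
        · exact Or.inl h1
        · exact Or.inr (hno a ha h1)
      · rw [Nat.card_coe_set_eq]
        exact Set.ncard_insert_le _ _ |>.trans (by simp)
    rw [hq, pow_succ] at this
    omega
  have hZ : Cfsg.IsZassenhausGroup G Ω := by
    refine ⟨⟨fun {g g'} h => ?_⟩, h2t, hthree, ?_, fun R hR1 hR2 => ?_⟩
    · obtain ⟨⟨y, hy⟩, hyb, hu⟩ := hreg b₀ b₀ hb₀ hb₀
      have hzb : z • b₀ ≠ b₀ := fun e' => d.z_ne (hfree z hzC b₀ hb₀ e')
      have hza : z • b₀ ≠ a₀ := fun e' => hb₀ (by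
        rwa [← eq_inv_smul_iff, hfixC _ (inv_mem hzC)] at e')
      refine (inv_mul_eq_one.1 (hthree (g'⁻¹ * g) a₀ b₀ (z • b₀) hb₀.symm hzb.symm hza.symm
        ?_ ?_ ?_)).symm <;> rw [mul_smul, h, inv_smul_smul]
    · by_contra hno
      push Not at hno
      have hle : Nat.card B ≤ Nat.card {v : Ω // v ≠ a₀} :=
        Nat.card_le_card_of_injective (fun g : B => (⟨(g : G) • b₀, fun e' => hb₀ (by
          rwa [← eq_inv_smul_iff, hfixB _ (inv_mem g.2)] at e')⟩ : {v : Ω // v ≠ a₀}))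
          fun g g' h => by
            have h' : (g : G) • b₀ = (g' : G) • b₀ := congrArg Subtype.val h
            refine Subtype.ext (inv_mul_eq_one.1 ?_).symm
            by_contra hne
            exact hno _ hne a₀ b₀ hb₀.symm
              (by rw [mul_smul, hfixB _ g.2, hfixB _ (inv_mem g'.2)])
              (by rw [mul_smul, h', inv_smul_smul])
      haveI := Fintype.ofFinite Ω
      rw [Nat.card_eq_fintype_card (α := {v : Ω // v ≠ a₀}), Fintype.card_subtype_compl,
        Fintype.card_subtype_eq, ← Nat.card_eq_fintype_card (α := Ω), hΩ, hB,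
        Nat.add_sub_cancel] at hle
      have h3 : 2 * Nat.card C ≤ (Nat.card C - 1) * Nat.card C :=
        Nat.mul_le_mul_right _ (by rw [hq, pow_succ]; omega)
      have : 0 < Nat.card C := Nat.card_pos
      omega
    · by_contra hno
      push Not at hno
      have hReq : ∀ r ∈ R, r • a₀ = a₀ → r = 1 := by
        intro r hr h
        exact congrArg Subtype.val (mem_bot.1 ((hno a₀).le (show (⟨r, hr⟩ : R) ∈ _ from h)))
      have hRfix : ∀ h ∈ C, h ≠ 1 → ∀ r ∈ R, h * r * h⁻¹ = r → r = 1 := by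
        intro h hh h1 r hr hcm
        by_contra hr1
        refine h1 (hfree h hh (r • a₀) (fun e' => hr1 (hReq r hr e')) ?_)
        rw [← mul_smul, mul_inv_eq_iff_eq_mul.1 hcm, mul_smul, hfixC h hh]
      have hfpf : IsFPF C R := by
        refine ⟨by rw [normalizer_eq_top_iff.2 hR1]; exact le_top, fun a ha ha1 => ?_⟩
        rw [eq_bot_iff_forall]
        exact fun r hr => hRfix a ha ha1 r hr.1
          (mul_inv_eq_iff_eq_mul.2 (mem_centralizer_singleton_iff.1 hr.2).symm)
      obtain ⟨⟨r, hr⟩, hrb⟩ := hR2.exists_smul_eq a₀ b₀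
      have hr1 : r ≠ 1 := fun e' => hb₀ (by
        rw [← hrb]; show r • a₀ = a₀; rw [e', one_smul])
      exact hz₂z (hfpf.involution_unique (fun h => hr1 (by rw [← mem_bot, ← h]; exact hr)) hz₂C hz₂1
        (d.sq_centralizer hc hz₂C) hzC d.z_ne d.z_sq)
  -- the two-point stabiliser
  have hF : CfsgLib.Perm.ZassG.IsKernel a₀ C :=
    ⟨fun h hh => mem_stabilizer_iff.2 (hfixC h hh),
      fun g hg u hu => (Subgroup.mem_normalizer_iff.1 (show g ∈ B from hstab ▸ hg) u).1 hu, hreg⟩
  have hcardG := hF.card_stabilizer hZ hb₀.symm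
  rw [hstab, hB, mul_comm] at hcardG
  have hpair : Nat.card (CfsgLib.Perm.ZassG.pairStab G a₀ b₀) = Nat.card C - 1 :=
    (Nat.eq_of_mul_eq_mul_left Nat.card_pos hcardG).symm
  obtain ⟨F, hFf, hFt, hFc, ⟨iso⟩⟩ := CfsgLib.Perm.ZassG.exists_pgl_of_odd hZ hb₀.symm
    (by rw [hpair, hΩ]; have : 0 < Nat.card C := Nat.card_pos; omega)
    (by rw [hΩ, hq]; exact (Nat.even_pow.2 ⟨even_two, by omega⟩).add_one)
  have hcF : Fintype.card F = 2 ^ (e + 1) := by
    rw [hΩ, hq, Nat.card_eq_fintype_card] at hFc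
    omega
  haveI : CharP F 2 := by
    obtain ⟨r, hr⟩ := CharP.exists F
    obtain ⟨j, hr', hj⟩ := FiniteField.card F r
    rw [hj] at hcF
    have hrp : r = 2 := (Nat.prime_dvd_prime_iff_eq hr' Nat.prime_two).1
      (hr'.dvd_of_dvd_pow (hcF ▸ dvd_pow_self r j.pos.ne'))
    exact hrp ▸ hr
  obtain ⟨sl⟩ := CfsgLib.Perm.nonempty_sl_two_equiv_pgl F (ringChar.eq F 2)
  let φ : G ≃* Matrix.SpecialLinearGroup (Fin 2) F := iso.trans sl.symm
  haveI : IsMulCommutative M := ⟨⟨fun a b => Subtype.ext (d.comm a.2 b.2)⟩⟩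
  have hcyc : IsCyclic M := isCyclic_of_sl M d.odd_card φ.toMonoidHom φ.injective
  have hcen : Subgroup.center (Matrix.SpecialLinearGroup (Fin 2) F) = ⊥ := by
    refine eq_bot_of_card_eq _ ?_
    rw [CfsgLib.Classical.card_center_SL_fin 2 one_le_two, Nat.card_eq_fintype_card, hcF]
    refine Nat.coprime_iff_gcd_eq_one.1 (Nat.coprime_two_left.2 ?_)
    refine Nat.Even.sub_odd (Nat.one_le_two_pow) ?_ odd_one
    exact Nat.even_pow.2 ⟨even_two, by omega⟩
  exact ⟨F, hFf, hFt, e + 1, by omega, hcF, hcyc, by rw [hM, pow_succ]; ring,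
    ⟨φ.trans (((QuotientGroup.quotientMulEquivOfEq hcen).trans QuotientGroup.quotientBot).symm)⟩⟩

end LTI

end CfsgLib.LargeTI
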