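import Mathlib
import Cfsg.Agent.Lib.LocalEven.LargeTI.CaseA
import Cfsg.Agent.Lib.LocalEven.LargeTI.CaseB1
import Cfsg.Agent.Lib.LocalEven.LargeTI.CaseB2

/-!
Bender's theorem on groups with a large subgroup.
-/

set_option autoImplicit false

namespace CfsgLib.LargeTI

open Subgroup CfsgLib.Base MulAction

universe u

variable {G : Type u} [Group G] [Finite G]

/-- **Bender.** A non-normal TI-subgroup `M` with centralizers of odd order, `N(M) = M·C(z)` and more
involutions than `|G : M|`. -/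
theorem large_ti {M : Subgroup G} {z : G} (d : LTI M z) :
    (∃ (F : Type) (_ : Field F) (_ : Fintype F) (p : ℕ) (_ : Fact p.Prime) (_ : CharP F p),
      Fintype.card F = Nat.card M ∧ Cfsg.IsElementaryAbelian p M ∧
        (Nonempty (G ≃* (GL (Fin 2) F ⧸ Subgroup.center (GL (Fin 2) F))) ∨
         (Fintype.card F % 4 = 1 ∧
           Nonempty (G ≃* Matrix.ProjectiveSpecialLinearGroup (Fin 2) F)))) ∨
    (∃ (F : Type) (_ : Field F) (_ : Fintype F) (e : ℕ), 1 < e ∧ Fintype.card F = 2 ^ e ∧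
      IsCyclic ↥M ∧ Nat.card M = 2 ^ e + 1 ∧
      Nonempty (G ≃* Matrix.ProjectiveSpecialLinearGroup (Fin 2) F)) ∨
    (∃ (n : ℕ) (E : Subgroup G), 1 ≤ n ∧ E.Normal ∧ Cfsg.IsElementaryAbelian 2 E ∧
      Nat.card E = 2 ^ (2 * n) ∧ E ⊓ normalizer (M : Set G) = ⊥ ∧
      E ⊔ normalizer (M : Set G) = ⊤ ∧
      Nonempty (↥(normalizer (M : Set G)) ≃* DihedralGroup (2 ^ n + 1))) := by
  obtain ⟨β, hβ, hz⟩ := d.exists_pair
  haveI : Nonempty (LTI.Fix' M z) := ⟨⟨β, hβ, hz⟩⟩
  have hpos : 0 < Nat.card (LTI.Fix' M z) := Nat.card_pos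
  rcases Nat.lt_or_ge (Nat.card (LTI.Fix' M z)) 2 with h | h
  · rcases d.conclusion_A (by omega) with h' | h'
    · exact Or.inl h'
    · exact Or.inr (Or.inr h')
  · obtain ⟨e, t, he, ht1, ht2, -, hH, hM, hP, hG, hconj⟩ := d.numbers h
    rcases (show t = 1 ∨ t = 2 by omega) with rfl | rfl
    · refine Or.inr (Or.inr (d.conclusion_B1 h he (by rw [hM]; ring) ?_ hG))
      rw [hP]
      congr 1
      have : 0 < 2 ^ e := by positivity
      omega
    · exact Or.inr (Or.inl (d.conclusion_B2 h he hH hM hP hG (hconj rfl)))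

end CfsgLib.LargeTI
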